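import Groth.Agent.H12Pic.Hodge.Numerical
import Groth.Agent.H12Pic.NumTriv.Euler

/-!
# Numerical triviality is detected on the zero scheme of a section of an ample module
-/

set_option autoImplicit false
set_option linter.style.haveILetI false
set_option linter.unusedSectionVars false
universe u

open CategoryTheory CategoryTheory.Limits AlgebraicGeometry TopologicalSpace Opposite
open Groth.Agent.H11Ample Groth.Agent.H11Tilde Groth.Agent.H22Alg
open Groth.Agent.H8Props.FieldDim (cdim)

noncomputable section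

namespace Groth.Agent.H12Pic.Hodge

/-- The zero scheme of a section contains every point where the section does not generate. -/
theorem mem_range_zeroScheme {X : Scheme.{u}} {L : X.Modules} (hL : PicF.IsInvertible L)
    (s : Coh.structureModule X ⟶ L) {x : X} (hx : x ∉ gen L (SecTwist.val s ⊤)) :
    x ∈ Set.range (PicF2.zeroScheme L s).subschemeι := by
  rw [Scheme.IdealSheafData.range_subschemeι]
  obtain ⟨V, e, hxV, he⟩ := exists_gen hL x
  obtain ⟨U, hU, hxU, hUV⟩ := exists_isAffineOpen_mem_and_subset (U := V) hxV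
  have he' := he.res (show U ≤ V from hUV)
  obtain ⟨c, hc⟩ := exists_coeff he' (L.presheaf.map (homOfLE (le_top : U ≤ ⊤)).op (SecTwist.val s ⊤))
  have hxc : x ∉ X.basicOpen c := fun h => hx ((gen_inf_eq_basicOpen he' _ c hc).ge h).1
  have hval : (SecTwist.val s U : Γ(L, U)) = c • L.presheaf.map (homOfLE (show U ≤ V from hUV)).op e :=
    (SecTwist.map_val s (homOfLE (le_top : U ≤ ⊤))).symm.trans hc
  refine (Scheme.IdealSheafData.mem_support_iff_of_mem (U := ⟨U, hU⟩) hxU).2 ?_
  refine (X.mem_zeroLocus_iff _ x).2 fun a ha hxa => ?_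
  obtain ⟨b, hb⟩ := Scheme.IdealSheafData.ideal_ofIdeals_le _ ⟨U, hU⟩ ha (L.presheaf.map (homOfLE (show U ≤ V from hUV)).op e)
  have hb' : (a : Γ(X, U)) • (L.presheaf.map (homOfLE (show U ≤ V from hUV)).op e) =
      ((show Γ(X, U) from b) * c) • (L.presheaf.map (homOfLE (show U ≤ V from hUV)).op e) := by
    rw [mul_smul, ← hval]
    exact hb
  have hac : (show Γ(X, U) from a) = (show Γ(X, U) from b) * c := by
    have h1 := (he'.bijective le_rfl).1
    refine h1 ?_
    simp only [H10Coh.mres_self]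
    exact hb'
  change x ∈ X.basicOpen (show Γ(X, U) from a) at hxa
  rw [hac, Scheme.basicOpen_mul] at hxa
  exact hxc hxa.2

variable (k : Type u) [Field k] [IsAlgClosed k] {X : Scheme.{u}} [X.Over (Spec (CommRingCat.of k))]
  [IsProper (X ↘ Spec (CommRingCat.of k))]

/-- Intersection numbers do not see numerically trivial twists. -/
theorem D_tensor_nt {L : X.Modules} (hL : NumTriv.NT k L) : ∀ (l : List X.Modules), (∀ A ∈ l, PicF.IsInvertible A) →
    ∀ F : X.Modules, Coh.IsCoh F → H28Int.D k l (CohB1.tensorMod L F) = H28Int.D k l F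
  | [], _, F, hF => NumTriv.euler_tensor_eq k hF hL
  | A :: l, hl, F, hF => by
    haveI := H28Int.isNoetherian k (X := X)
    have hl' : ∀ B ∈ l, PicF.IsInvertible B := fun B hB => hl B (List.mem_cons_of_mem _ hB)
    show H28Int.D k l _ - H28Int.D k l _ = H28Int.D k l F - H28Int.D k l _
    rw [D_tensor_nt hL l hl' F hF,
      (H28Int.isAddFn_D k l hl').congr ((H10Coh.Tw.assoc A L F).symm ≪≫
        PicGrp.tensorModIso (H10Coh.Tw.commIso A L) (Iso.refl F) ≪≫ H10Coh.Tw.assoc L A F),
      D_tensor_nt hL l hl' _ (H28Int.isCoh_twist (hl A List.mem_cons_self) hF)]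

/-- A numerically trivial class kills every intersection number. -/
theorem Q_cons_nt {L : X.Modules} (hL : NumTriv.NT k L) {l : List X.Modules} (hl : ∀ A ∈ l, PicF.IsInvertible A)
    {F : X.Modules} (hF : Coh.IsCoh F) : NefQ.Q k (L :: l) F = 0 := by
  show (-1 : ℤ) ^ _ * (H28Int.D k l F - H28Int.D k l _) = 0
  rw [D_tensor_nt k hL l hl F hF, sub_self, mul_zero]

/-- A class numerically trivial on a closed subscheme kills the intersection numbers of what is supported on it. -/
theorem Q_eq_zero_of_nt {W : Scheme.{u}} [W.Over (Spec (CommRingCat.of k))]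
    [IsProper (W ↘ Spec (CommRingCat.of k))] (i : W ⟶ X) [IsClosedImmersion i]
    (hi : i ≫ (X ↘ Spec (CommRingCat.of k)) = W ↘ Spec (CommRingCat.of k)) {L : X.Modules}
    (hL : PicF.IsInvertible L) (hnt : NumTriv.NT k ((Scheme.Modules.pullback i).obj L))
    {l : List X.Modules} (hl : ∀ A ∈ l, PicF.IsInvertible A) {F : X.Modules} (hF : Coh.IsCoh F)
    (hs : CohB1.support F ⊆ Set.range i)
    (hd : topologicalKrullDim (CohB1.support F) ≤ ((l.length + 1 : ℕ) : WithBot ℕ∞)) :
    NefQ.Q k (L :: l) F = 0 := by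
  haveI := H28Int.isNoetherian k (X := X)
  haveI := H28Int.isNoetherian k (X := W)
  have hLl : ∀ A ∈ L :: l, PicF.IsInvertible A := List.forall_mem_cons.2 ⟨hL, hl⟩
  rw [NefQ.Q, DevLength.eq_finsum (H28Int.isAddFn_D k _ hLl) (d := l.length + 1)
    (fun G hG hG' => H28Int.D_eq_zero k _ hLl G hG hG') hF hd]
  refine mul_eq_zero_of_right _ (finsum_eq_zero_of_forall_eq_zero fun z => ?_)
  split_ifs with hzd
  swap
  · rfl
  by_cases hzs : z ∈ CohB1.support F
  swap
  · rw [DevLength.len_eq_zero hzs]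
    simp
  refine mul_eq_zero_of_right _ ?_
  obtain ⟨y, hy⟩ := hs hzs
  let I := Scheme.IdealSheafData.vanishingIdeal (DevLength.cl y)
  haveI : IsIntegral I.subscheme := isIntegral_vanishingIdeal_closure y
  letI : I.subscheme.Over (Spec (CommRingCat.of k)) := ⟨I.subschemeι ≫ (W ↘ Spec (CommRingCat.of k))⟩
  haveI : IsProper (I.subscheme ↘ Spec (CommRingCat.of k)) := inferInstanceAs (IsProper (I.subschemeι ≫ _))
  have hgen : (I.subschemeι ≫ i) (genericPoint I.subscheme) = z := by
    rw [Scheme.Hom.comp_apply, H28RR.HodgeProper.subschemeι_genericPoint]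
    exact hy
  have hId : topologicalKrullDim I.subscheme = ((l.length + 1 : ℕ) : WithBot ℕ∞) := by
    rw [(I.subschemeι ≫ i).isClosedEmbedding.isEmbedding.toHomeomorph.isHomeomorph.topologicalKrullDim_eq,
      LeadDev.range_eq_closure (I.subschemeι ≫ i) (ξ := z) hgen]
    exact hzd
  have h := NefQ.Q_quotMod_ker k (I.subschemeι ≫ i)
    (by rw [Category.assoc, hi]; rfl) hLl (by rw [List.length_cons]; exact hId)
  have hNT : NumTriv.NT k ((Scheme.Modules.pullback (I.subschemeι ≫ i)).obj L) :=
    ((hnt.pullback k I.subschemeι rfl).congr k ((Scheme.Modules.pullbackComp I.subschemeι i).app L))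
  rw [List.map_cons, Q_cons_nt k hNT (fun A hA => by
      obtain ⟨B, hB, rfl⟩ := List.mem_map.1 hA
      exact isInvertible_pullback _ (hl B hB)) (H10Coh.isCoh_structureModule' _),
    IntPullback.quotMod_ker, hgen, NefQ.Q] at h
  exact (mul_eq_zero.1 h.symm).resolve_left (by simp)

/-- A class numerically trivial on the zero scheme of a section of an ample module is numerically trivial. -/
theorem nt_of_restrict {H : X.Modules} (hH : CohB1.IsAmple H) (φ : Coh.structureModule X ⟶ H)
    {W : Scheme.{u}} [W.Over (Spec (CommRingCat.of k))] [IsProper (W ↘ Spec (CommRingCat.of k))]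
    (i : W ⟶ X) [IsClosedImmersion i]
    (hi : i ≫ (X ↘ Spec (CommRingCat.of k)) = W ↘ Spec (CommRingCat.of k))
    (hW : ∀ x, x ∉ gen H (SecTwist.val φ ⊤) → x ∈ Set.range i)
    (hdim : ∀ Z ∈ irreducibleComponents (X : Type u),
      ∀ C ∈ irreducibleComponents ↥(Z ∩ Set.range i.base), 2 ≤ topologicalKrullDim ↥C)
    {L : X.Modules} (hL : PicF.IsInvertible L) (hnt : NumTriv.NT k ((Scheme.Modules.pullback i).obj L)) :
    Pic13.IsNumEquivZero k X L := by
  haveI := H28Int.isNoetherian k (X := X)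
  refine (NumTriv.num_iff_Q k hL).2 fun C ι _ _ hC => ?_
  haveI := H28Int.isNoetherian k (X := W)
  obtain ⟨Z, hZ, hCZ⟩ := exists_mem_irreducibleComponents_subset_of_isIrreducible _
    (isIrreducible_singleton (x := ι (genericPoint C))).closure
  have hcl : Set.range ι ⊆ Z := by rw [LeadDev.range_eq_closure ι rfl]; exact hCZ
  have hdc : topologicalKrullDim (CohB1.support (ClSub.quotMod ι.ker)) ≤ ((1 : ℕ) : WithBot ℕ∞) :=
    NefBC.support_quotMod_ker_le k ι hC
  have hsupp : CohB1.support (ClSub.quotMod ι.ker) ⊆ Set.range ι := by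
    rw [IntPullback.quotMod_ker ι]
    exact (H25K.support_redMod_subset _).trans
      (closure_minimal (Set.singleton_subset_iff.2 ⟨_, rfl⟩) ι.isClosedEmbedding.isClosed_range)
  let η := hZ.1.genericPoint
  have hη : closure {η} = Z := hZ.1.closure_genericPoint (isClosed_of_mem_irreducibleComponents _ hZ)
  by_cases hin : η ∈ Set.range i
  · refine Q_eq_zero_of_nt k i hi hL hnt (l := []) (by simp) (LeadDev.isCoh_push_structure _)
      (hsupp.trans (hcl.trans (hη ▸ closure_minimal (Set.singleton_subset_iff.2 hin) i.isClosedEmbedding.isClosed_range))) ?_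
    simpa using hdc
  -- the component as an integral scheme
  let J := Scheme.IdealSheafData.vanishingIdeal (DevLength.cl η)
  haveI : IsIntegral J.subscheme := isIntegral_vanishingIdeal_closure η
  let j := J.subschemeι
  letI : J.subscheme.Over (Spec (CommRingCat.of k)) := ⟨j ≫ (X ↘ Spec (CommRingCat.of k))⟩
  haveI : IsProper (J.subscheme ↘ Spec (CommRingCat.of k)) := inferInstanceAs (IsProper (j ≫ _))
  haveI := H28Int.isNoetherian k (X := J.subscheme)
  have hjr : Set.range j = Z := by rw [H17.range_vanishingIdeal_subschemeι]; exact hη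
  let g := pullTop j (SecTwist.val φ ⊤)
  let HJ := (Scheme.Modules.pullback j).obj H
  have hHJ : CohB1.IsAmple HJ := isAmple_pullback_of_isAffineHom j hH
  have hgen : gen HJ g = j ⁻¹ᵁ gen H (SecTwist.val φ ⊤) := by
    rw [← gen_smul_pullSect j hH.1 _ isUnit_one, one_smul]
  have hjη : j (genericPoint J.subscheme) = η := H28RR.HodgeProper.subschemeι_genericPoint η
  have hgη : genericPoint J.subscheme ∈ gen HJ g := by
    rw [hgen]
    show j (genericPoint J.subscheme) ∈ gen H _
    rw [hjη]
    exact by_contra fun h => hin (hW η h)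
  obtain ⟨n, hn⟩ : ∃ n : ℕ, topologicalKrullDim J.subscheme = (n : WithBot ℕ∞) := by
    obtain ⟨n, hn, -⟩ := VarDim.exists_cdim_trdeg k J.subscheme (genericPoint J.subscheme)
    exact ⟨n, (VarDim.cdim_genericPoint J.subscheme).symm.trans hn⟩
  have hZd : topologicalKrullDim Z = (n : WithBot ℕ∞) := by
    rw [← hn, j.isClosedEmbedding.isEmbedding.toHomeomorph.isHomeomorph.topologicalKrullDim_eq, hjr]
  have hn1 : 1 ≤ n := by
    have h' : ((1 : ℕ) : WithBot ℕ∞) ≤ topologicalKrullDim Z := by
      rw [← hC, ι.isClosedEmbedding.isEmbedding.toHomeomorph.isHomeomorph.topologicalKrullDim_eq]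
      exact H28Int.dim_le_of_subset hcl
    rw [hZd] at h'
    exact_mod_cast WithBot.coe_le_coe.1 h'
  obtain ⟨HJ', hHJ', ⟨e₀⟩⟩ := H11Sym.exists_inverse hHJ.1
  let e := H10Coh.Tw.commIso HJ HJ' ≪≫ e₀
  have hg0 : g ≠ 0 := by
    intro h0
    have hle := gen_smul_le_basicOpen hHJ.1 (0 : Γ(J.subscheme, ⊤)) g
    rw [zero_smul, Scheme.basicOpen_zero, ← h0] at hle
    exact (hle hgη : genericPoint J.subscheme ∈ (⊥ : J.subscheme.Opens))
  have hcut : ∀ l : List J.subscheme.Modules, (∀ A ∈ l, PicF.IsInvertible A) → l.length + 1 = n →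
      ∃ C : J.subscheme.Modules, Coh.IsCoh C ∧
        topologicalKrullDim (CohB1.support C) ≤ (l.length : WithBot ℕ∞) ∧
        CohB1.support C ⊆ (gen HJ g : Set J.subscheme)ᶜ ∧
        NefQ.Q k (HJ :: l) (Coh.structureModule J.subscheme) = NefQ.Q k l C := by
    intro l hl hlen
    have hdl : topologicalKrullDim J.subscheme ≤ ((l.length + 1 : ℕ) : WithBot ℕ∞) := by rw [hlen, hn]
    obtain ⟨C, hC', hCd, hCs, -, heq⟩ := H28Int.Surface.exists_zero_locus k hl hdl hHJ.1 hHJ' e hg0
    refine ⟨C, hC', hCd, hCs, ?_⟩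
    have hO : Coh.IsCoh (Coh.structureModule J.subscheme) := H28Int.Surface.isCoh_structure k
    have hsum : H28Int.D k (HJ :: l) (Coh.structureModule J.subscheme) +
        H28Int.D k (HJ' :: l) (Coh.structureModule J.subscheme) = 0 := by
      rw [← H28Int.D_cons_tensor k hl hHJ.1 hHJ' hO ((Topology.IsInducing.subtypeVal.topologicalKrullDim_le).trans hdl)]
      show H28Int.D k l _ - H28Int.D k l _ = 0
      rw [(H28Int.isAddFn_D k l hl).congr (PicGrp.tensorModIso e (Iso.refl _) ≪≫ H10Coh.Tw.leftUnitIso _), sub_self]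
    simp only [NefQ.Q, List.length_cons, ← heq]
    linear_combination (-1 : ℤ) ^ (l.length + 1) * hsum
  -- the section vanishes somewhere
  obtain ⟨x, hx⟩ : ∃ x : J.subscheme, x ∉ gen HJ g := by
    by_contra hall
    push Not at hall
    have hl : ∀ A ∈ List.replicate (n - 1) HJ, PicF.IsInvertible A := fun A hA => List.eq_of_mem_replicate hA ▸ hHJ.1
    obtain ⟨C', hC', hCd, hCs, heq⟩ := hcut _ hl (by rw [List.length_replicate]; omega)
    have hempty : CohB1.support C' = ∅ := Set.eq_empty_iff_forall_notMem.2 fun y hy => hCs hy (hall y)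
    have h0 : NefQ.Q k (List.replicate (n - 1) HJ) C' = 0 := by
      refine mul_eq_zero_of_right _ (H28Int.D_eq_zero k _ hl C' hC' ?_)
      rw [hempty]
      haveI : IsEmpty (IrreducibleCloseds (∅ : Set J.subscheme)) := ⟨fun A => A.isIrreducible.nonempty.choose.2⟩
      rw [show topologicalKrullDim (∅ : Set J.subscheme) = ⊥ from Order.krullDim_eq_bot]
      exact WithBot.bot_lt_coe _
    have hpos := Nakai.top_pos k hHJ.1 (Nakai.pos_of_isAmple k hHJ) (d := n) hn1 hn
    rw [← List.replicate_succ, show n - 1 + 1 = n by omega, h0, NefQ.Q, List.length_replicate] at heq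
    exact hpos.ne' heq
  -- so the dimension is at least three
  obtain ⟨d, rfl⟩ : ∃ d : ℕ, n = d + 1 + 2 := by
    have hxW : j x ∈ Z ∩ Set.range i := ⟨hjr.le ⟨x, rfl⟩, hW _ fun h => hx (hgen.ge h)⟩
    obtain ⟨C', hC', hxC'⟩ := exists_mem_irreducibleComponents_subset_of_isIrreducible
      ({⟨j x, hxW⟩} : Set ↥(Z ∩ Set.range i.base)) isIrreducible_singleton
    have h2 := hdim Z hZ C' hC'
    have hlt : topologicalKrullDim ↥(Z ∩ Set.range i.base) < (n : WithBot ℕ∞) :=
      H28Int.dim_lt_of_notMem hη hZd.le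
        ((isClosed_of_mem_irreducibleComponents _ hZ).inter i.isClosedEmbedding.isClosed_range)
        (fun y hy => hy.1) (fun h => hin h.2)
    have h3 : (2 : WithBot ℕ∞) < (n : WithBot ℕ∞) :=
      h2.trans_lt ((Topology.IsInducing.subtypeVal.topologicalKrullDim_le).trans_lt hlt)
    have h4 : 2 < n := by exact_mod_cast h3
    exact ⟨n - 3, by omega⟩
  -- intersection numbers with L vanish
  let W' := pullback i j
  let i' : W' ⟶ J.subscheme := pullback.snd i j
  letI : W'.Over (Spec (CommRingCat.of k)) := ⟨i' ≫ (J.subscheme ↘ Spec (CommRingCat.of k))⟩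
  haveI : IsProper (W' ↘ Spec (CommRingCat.of k)) := inferInstanceAs (IsProper (i' ≫ _))
  let LJ := (Scheme.Modules.pullback j).obj L
  have hLJ : PicF.IsInvertible LJ := isInvertible_pullback j hL
  have hntW' : NumTriv.NT k ((Scheme.Modules.pullback i').obj LJ) := by
    have hf : pullback.fst i j ≫ (W ↘ Spec (CommRingCat.of k)) = W' ↘ Spec (CommRingCat.of k) := by
      rw [← hi, ← Category.assoc, pullback.condition, Category.assoc]
      rfl
    exact (hnt.pullback k (pullback.fst i j) hf).congr k ((Scheme.Modules.pullbackComp _ _).app L ≪≫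
      (Scheme.Modules.pullbackCongr pullback.condition).app L ≪≫ ((Scheme.Modules.pullbackComp _ _).app L).symm)
  have hkill : ∀ l : List J.subscheme.Modules, (∀ A ∈ l, PicF.IsInvertible A) → l.length + 2 = d + 1 + 2 →
      NefQ.Q k (HJ :: LJ :: l) (Coh.structureModule J.subscheme) = 0 := by
    intro l hl hlen
    obtain ⟨C', hC', hCd, hCs, heq⟩ := hcut (LJ :: l) (List.forall_mem_cons.2 ⟨hLJ, hl⟩)
      (by rw [List.length_cons]; omega)
    rw [heq]
    refine Q_eq_zero_of_nt k i' rfl hLJ hntW' hl hC' (fun y hy => ?_) hCd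
    rw [Scheme.Pullback.range_snd]
    exact hW _ fun h => hCs hy (hgen.ge h)
  have hHl : ∀ m, ∀ A ∈ List.replicate m HJ, PicF.IsInvertible A := fun m A hA => List.eq_of_mem_replicate hA ▸ hHJ.1
  have h0 : NefQ.Q k (LJ :: List.replicate (d + 1 + 1) HJ) (Coh.structureModule J.subscheme) = 0 := by
    rw [← hkill (List.replicate (d + 1) HJ) (hHl _) (by rw [List.length_replicate])]
    exact NefQ.Q_perm k (List.Perm.swap HJ LJ _) (List.forall_mem_cons.2 ⟨hLJ, List.forall_mem_cons.2 ⟨hHJ.1, hHl _⟩⟩) _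
  have h1 : NefQ.Q k (LJ :: LJ :: List.replicate (d + 1) HJ) (Coh.structureModule J.subscheme) = 0 := by
    rw [← hkill (LJ :: List.replicate d HJ) (List.forall_mem_cons.2 ⟨hLJ, hHl _⟩) (by
      rw [List.length_cons, List.length_replicate])]
    exact NefQ.Q_perm k (((List.Perm.swap HJ LJ _).cons LJ).trans (List.Perm.swap HJ LJ _))
      (List.forall_mem_cons.2 ⟨hLJ, List.forall_mem_cons.2 ⟨hLJ, List.forall_mem_cons.2 ⟨hHJ.1, hHl _⟩⟩⟩) _
  have hcurves := (index (d + 1) k J.subscheme hn HJ LJ hHJ hLJ h0).2 h1.ge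
  exact Q_eq_zero_of_restrict k j rfl hL (fun Z' i₁ _ _ hZ' => hcurves Z' i₁ hZ') (LeadDev.isCoh_push_structure _)
    ((hsupp.trans hcl).trans hjr.ge) hdc

end Groth.Agent.H12Pic.Hodge
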