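import Groth.Agent.H12Pic.NumTriv.Basic
import Groth.Agent.H28RR.HodgeProper

/-!
# Degrees on curves inside a closed subscheme, signs of inverses, reduction of irreducible schemes
-/

set_option autoImplicit false
set_option linter.style.haveILetI false
set_option linter.unusedSectionVars false
universe u

open CategoryTheory CategoryTheory.Limits AlgebraicGeometry TopologicalSpace Opposite
open Groth.Agent.H11Ample Groth.Agent.H22Alg
open Groth.Agent.H8Props.FieldDim (cdim)

noncomputable section

namespace Groth.Agent.H12Pic.Hodge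

/-- A closed set of a finite-dimensional scheme has dimension bounded by those of its points. -/
theorem dim_le_of_forall_cdim {X : Scheme.{u}} {C : Set X} (hC : IsClosed C) {N n : ℕ}
    (hN : topologicalKrullDim C ≤ (N : WithBot ℕ∞)) (h : ∀ x ∈ C, cdim x ≤ (n : WithBot ℕ∞)) :
    topologicalKrullDim C ≤ (n : WithBot ℕ∞) := by
  rcases hdim : topologicalKrullDim C with _ | b
  · exact bot_le
  rw [hdim] at hN
  obtain ⟨c, hc⟩ := WithTop.ne_top_iff_exists.1
    (fun e : b = ⊤ => absurd (e ▸ WithBot.coe_le_coe.1 hN) (by simp))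
  obtain ⟨x, hx, hle⟩ := H28Int.exists_le_cdim hC (r := c) (hdim.trans (by rw [← hc]; rfl))
  exact le_of_eq_of_le (by rw [← hc]; rfl) (hle.trans (h x hx))

variable (k : Type u) [Field k] {X : Scheme.{u}} [X.Over (Spec (CommRingCat.of k))]
  [IsProper (X ↘ Spec (CommRingCat.of k))]

/-- A class of degree zero on the curves of a closed subscheme kills the modules supported on it. -/
theorem Q_eq_zero_of_restrict {W : Scheme.{u}} [W.Over (Spec (CommRingCat.of k))]
    [IsProper (W ↘ Spec (CommRingCat.of k))] (j : W ⟶ X) [IsClosedImmersion j]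
    (hj : j ≫ (X ↘ Spec (CommRingCat.of k)) = W ↘ Spec (CommRingCat.of k)) {L : X.Modules} (hL : PicF.IsInvertible L)
    (h : ∀ (Z : Scheme.{u}) (i : Z ⟶ W) [IsClosedImmersion i] [IsIntegral Z],
      topologicalKrullDim Z = ((1 : ℕ) : WithBot ℕ∞) →
        NefQ.Q k [(Scheme.Modules.pullback j).obj L] (ClSub.quotMod i.ker) = 0)
    {F : X.Modules} (hF : Coh.IsCoh F) (hs : CohB1.support F ⊆ Set.range j)
    (hd : topologicalKrullDim (CohB1.support F) ≤ ((1 : ℕ) : WithBot ℕ∞)) : NefQ.Q k [L] F = 0 := by
  haveI := H28Int.isNoetherian k (X := X)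
  haveI := H28Int.isNoetherian k (X := W)
  have hl : ∀ A ∈ [L], PicF.IsInvertible A := List.forall_mem_singleton.2 hL
  rw [NefQ.Q, DevLength.eq_finsum (H28Int.isAddFn_D k _ hl) (d := 1)
    (fun G hG hG' => H28Int.D_eq_zero k _ hl G hG hG') hF hd]
  refine mul_eq_zero_of_right _ (finsum_eq_zero_of_forall_eq_zero fun z => ?_)
  split_ifs with hzd
  swap
  · rfl
  by_cases hzs : z ∈ CohB1.support F
  swap
  · rw [DevLength.len_eq_zero hzs]
    simp
  refine mul_eq_zero_of_right _ ?_
  obtain ⟨y, hy⟩ := hs hzs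
  let I := Scheme.IdealSheafData.vanishingIdeal (DevLength.cl y)
  haveI : IsIntegral I.subscheme := isIntegral_vanishingIdeal_closure y
  have hgen : (I.subschemeι ≫ j) (genericPoint I.subscheme) = z := by
    rw [Scheme.Hom.comp_apply, H28RR.HodgeProper.subschemeι_genericPoint]
    exact hy
  have hId : topologicalKrullDim I.subscheme = ((1 : ℕ) : WithBot ℕ∞) := by
    rw [(I.subschemeι ≫ j).isClosedEmbedding.isEmbedding.toHomeomorph.isHomeomorph.topologicalKrullDim_eq,
      LeadDev.range_eq_closure (I.subschemeι ≫ j) (ξ := z) hgen]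
    exact hzd
  have h5 := h I.subscheme I.subschemeι hId
  rw [show [(Scheme.Modules.pullback j).obj L] = [L].map (Scheme.Modules.pullback j).obj from rfl,
    NefQ.Q_restrict k j hj I.subschemeι hl hId, IntPullback.quotMod_ker, hgen, NefQ.Q] at h5
  exact (mul_eq_zero.1 h5).resolve_left (by simp)

/-- Replacing classes by their inverses changes the sign of the intersection number. -/
theorem Q_inverses {F : X.Modules} (hF : Coh.IsCoh F) : ∀ {l l' : List X.Modules},
    List.Forall₂ (fun A A' => PicF.IsInvertible A ∧ PicF.IsInvertible A' ∧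
      Nonempty (CohB1.tensorMod A A' ≅ Coh.structureModule X)) l l' →
    ∀ pre : List X.Modules, (∀ A ∈ pre, PicF.IsInvertible A) →
      topologicalKrullDim (CohB1.support F) ≤ ((pre.length + l.length : ℕ) : WithBot ℕ∞) →
      NefQ.Q k (pre ++ l') F = (-1 : ℤ) ^ l.length * NefQ.Q k (pre ++ l) F := by
  haveI := H28Int.isNoetherian k (X := X)
  intro l l' h
  induction h with
  | nil => intro pre _ _; simp
  | @cons A A' l l' hA h ih =>
    intro pre hpre hd
    obtain ⟨hAi, hA'i, ⟨e⟩⟩ := hA
    have hl' : ∀ B ∈ l', PicF.IsInvertible B := fun B hB => by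
      obtain ⟨i, hi, rfl⟩ := List.getElem_of_mem hB
      exact (h.get (by rw [h.length_eq]; exact hi) hi).2.1
    have hrest : ∀ B ∈ pre ++ l', PicF.IsInvertible B := fun B hB =>
      (List.mem_append.1 hB).elim (hpre B) (hl' B)
    have h1 : NefQ.Q k (pre ++ A' :: l') F = NefQ.Q k (A' :: (pre ++ l')) F :=
      (NefQ.Q_perm k List.perm_middle.symm (List.forall_mem_cons.2 ⟨hA'i, hrest⟩) F).symm
    have h2 : NefQ.Q k ((pre ++ [A]) ++ l') F = NefQ.Q k (A :: (pre ++ l')) F :=
      (NefQ.Q_perm k (by rw [List.append_assoc]; exact List.perm_middle.symm)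
        (List.forall_mem_cons.2 ⟨hAi, hrest⟩) F).symm
    have hdl : topologicalKrullDim (CohB1.support F) ≤ (((pre ++ l').length + 1 : ℕ) : WithBot ℕ∞) := by
      refine hd.trans (le_of_eq ?_)
      rw [List.length_append, List.length_cons, ← h.length_eq, Nat.add_assoc]
    have h3 := NefQ.Q_cons_tensor k hrest hAi hA'i hF hdl
    have h4 : NefQ.Q k (CohB1.tensorMod A A' :: (pre ++ l')) F = 0 := by
      show (-1 : ℤ) ^ _ * (H28Int.D k _ F - H28Int.D k _ _) = 0
      rw [(H28Int.isAddFn_D k _ hrest).congr (PicGrp.tensorModIso e (Iso.refl _) ≪≫ H10Coh.Tw.leftUnitIso _),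
        sub_self, mul_zero]
    have h5 := ih (pre ++ [A]) (fun B hB => (List.mem_append.1 hB).elim (hpre B)
      fun hB' => List.mem_singleton.1 hB' ▸ hAi) (hd.trans (le_of_eq (by
        rw [List.length_append, List.length_cons, List.length_singleton, Nat.add_assoc, Nat.add_comm l.length])))
    rw [List.append_assoc pre [A] l, List.singleton_append] at h5
    rw [h2] at h5
    rw [h1, List.length_cons, pow_succ]
    rw [h4] at h3
    linear_combination -h3 - h5

/-- Intersection numbers computed by the inverse modules. -/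
theorem intNum_inverses {d r : ℕ} (hdX : topologicalKrullDim X ≤ d) {M M' : Fin r → X.Modules}
    (hM : ∀ i, PicF.IsInvertible (M i)) (hM' : ∀ i, PicF.IsInvertible (M' i))
    (e : ∀ i, Nonempty (CohB1.tensorMod (M i) (M' i) ≅ Coh.structureModule X)) {F : X.Modules} (hF : Coh.IsCoh F)
    (hd : topologicalKrullDim (CohB1.support F) ≤ (r : WithBot ℕ∞)) :
    FGA.intNum k X d M' F = NefQ.Q k (List.ofFn M) F := by
  have h : List.Forall₂ (fun A A' => PicF.IsInvertible A ∧ PicF.IsInvertible A' ∧
      Nonempty (CohB1.tensorMod A A' ≅ Coh.structureModule X)) (List.ofFn M) (List.ofFn M') :=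
    List.forall₂_iff_get.2 ⟨by simp, fun i h₁ h₂ => by
      simp only [List.get_ofFn]
      exact ⟨hM _, hM' _, e _⟩⟩
  have h1 := Q_inverses k hF h [] (by simp) (by simpa using hd)
  simp only [List.nil_append, NefQ.Q, List.length_ofFn] at h1 ⊢
  rw [H28Int.intNum_eq k hdX M' hM' hF]
  have hsq : ((-1 : ℤ) ^ r) * ((-1 : ℤ) ^ r) = 1 := by rw [← pow_add, ← two_mul, pow_mul, neg_one_sq, one_pow]
  linear_combination ((-1 : ℤ) ^ r) * h1 - (H28Int.D k (List.ofFn M') F - (-1 : ℤ) ^ r * H28Int.D k (List.ofFn M) F) * hsq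

/-- On an irreducible scheme intersection numbers are positive multiples of those of the reduction. -/
theorem exists_red [IrreducibleSpace X] {r : ℕ} (hd : topologicalKrullDim X = (r : WithBot ℕ∞)) :
    ∃ (W : Scheme.{u}) (_ : W.Over (Spec (CommRingCat.of k))) (_ : IsProper (W ↘ Spec (CommRingCat.of k)))
      (_ : IsIntegral W) (j : W ⟶ X), IsClosedImmersion j ∧
      j ≫ (X ↘ Spec (CommRingCat.of k)) = W ↘ Spec (CommRingCat.of k) ∧ Set.range j = Set.univ ∧
      topologicalKrullDim W = (r : WithBot ℕ∞) ∧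
      ∃ c : ℤ, 0 < c ∧ ∀ l : List X.Modules, (∀ A ∈ l, PicF.IsInvertible A) → l.length = r →
        NefQ.Q k l (Coh.structureModule X) =
          c * NefQ.Q k (l.map (Scheme.Modules.pullback j).obj) (Coh.structureModule W) := by
  haveI := H28Int.isNoetherian k (X := X)
  let η := genericPoint X
  let J := Scheme.IdealSheafData.vanishingIdeal (DevLength.cl η)
  haveI : IsIntegral J.subscheme := isIntegral_vanishingIdeal_closure η
  letI : J.subscheme.Over (Spec (CommRingCat.of k)) := ⟨J.subschemeι ≫ (X ↘ Spec (CommRingCat.of k))⟩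
  haveI : IsProper (J.subscheme ↘ Spec (CommRingCat.of k)) := inferInstanceAs (IsProper (J.subschemeι ≫ _))
  have hηd : cdim η = (r : WithBot ℕ∞) := by rw [VarDim.cdim_genericPoint X, hd]
  have hJd : topologicalKrullDim J.subscheme = (r : WithBot ℕ∞) := by
    rw [NakaiPos.dim_subscheme, Scheme.IdealSheafData.coe_support_vanishingIdeal]
    exact hηd
  have hO := H10Coh.isCoh_structureModule' X
  have hsd : topologicalKrullDim (CohB1.support (Coh.structureModule X)) ≤ (r : WithBot ℕ∞) :=
    (Topology.IsInducing.subtypeVal.topologicalKrullDim_le).trans hd.le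
  have htop : DevLength.len (Coh.structureModule X) η ≠ ⊤ := DevLength.len_ne_top hO hO subset_rfl hsd hηd
  have hzero : DevLength.len (Coh.structureModule X) η ≠ 0 := fun h0 => by
    haveI := Module.length_eq_zero_iff.1 h0
    haveI := (Equiv.ofBijective _ (H06EGA9.bijective_smul_oneStalk η)).subsingleton
    exact false_of_nontrivial_of_subsingleton (X.presheaf.stalk η)
  refine ⟨_, inferInstance, inferInstance, inferInstance, J.subschemeι, inferInstance, rfl, ?_, hJd,
    ((DevLength.len (Coh.structureModule X) η).toNat : ℤ),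
    Int.natCast_pos.2 (Nat.pos_of_ne_zero fun h0 => (ENat.toNat_eq_zero.1 h0).elim hzero htop), fun l hl hlen => ?_⟩
  · rw [H17.range_vanishingIdeal_subschemeι]
    exact genericPoint_spec X
  rw [NefQ.Q_quotMod_ker k J.subschemeι rfl hl (by rw [hlen]; exact hJd), J.ker_subschemeι]
  simp only [NefQ.Q]
  rw [DevLength.eq_finsum (H28Int.isAddFn_D k l hl) (d := r)
    (fun G hG h => H28Int.D_eq_zero k l hl G hG (by rw [hlen]; exact h)) hO hsd, finsum_eq_single _ η,
    if_pos (show topologicalKrullDim (closure ({η} : Set X)) = _ from hηd)]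
  · show _ = _ * ((-1 : ℤ) ^ l.length * H28Int.D k l (H25K.redMod (DevLength.cl η)))
    ring
  · intro z hz
    split_ifs with hzd
    · exact absurd hzd (DevLength.dim_closure_lt (genericPoint_specializes z) hz hηd.le).ne
    · rfl

end Groth.Agent.H12Pic.Hodge
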