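import Groth.Agent.H12Pic.Bdd.Proper
import Groth.Agent.H12Pic.Bdd.Tau
import Groth.Agent.H12Pic.Hodge.Restrict

/-!
# Families with bounded degrees: sections, regularity in dimension `≤ 1` and on surfaces

For a set of invertible modules closed under inverses whose degrees on every module with support of
dimension `≤ 1` are bounded, the twists of such a module are uniformly regular with bounded sections; on
an integral projective surface a lower bound on the squares then makes the set bounded.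
-/

set_option autoImplicit false
set_option linter.style.haveILetI false
set_option linter.unusedSectionVars false
universe u

open CategoryTheory CategoryTheory.Limits AlgebraicGeometry TopologicalSpace Opposite
open Groth.Agent.H11Ample Groth.Agent.H22Alg Groth.Agent.H25Index

noncomputable section

namespace Groth.Agent.H12Pic.Hodge

variable {X : Scheme.{u}} (k : Type u) [Field k] [X.Over (Spec (CommRingCat.of k))]
  [IsProper (X ↘ Spec (CommRingCat.of k))]

/-- A power of an ample class is nonnegative on a module with support of that dimension. -/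
theorem Q_ample_nonneg {H : X.Modules} (hH : CohB1.IsAmple H) {F : X.Modules} (hF : Coh.IsCoh F) {r : ℕ}
    (hd : topologicalKrullDim (CohB1.support F) ≤ (r : WithBot ℕ∞)) :
    0 ≤ NefQ.Q k (List.replicate r H) F := by
  haveI := H28Int.isNoetherian k (X := X)
  obtain ⟨H', hH', ⟨e₀⟩⟩ := H11Sym.exists_inverse hH.1
  let e := H10Coh.Tw.commIso H H' ≪≫ e₀
  have hF2 : List.Forall₂ (fun A A' => PicF.IsInvertible A ∧ PicF.IsInvertible A' ∧
      Nonempty (CohB1.tensorMod A A' ≅ Coh.structureModule X)) (List.replicate r H) (List.replicate r H') :=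
    List.forall₂_iff_get.2 ⟨by simp, fun i _ _ => by
      simp only [List.get_eq_getElem, List.getElem_replicate]; exact ⟨hH.1, hH', ⟨e⟩⟩⟩
  have h1 := Q_inverses k hF hF2 [] (by simp) (by simpa using hd)
  have h2 := (H28Int.pos_of_ample k (List.replicate r H') (fun M hM => by
    obtain rfl := List.eq_of_mem_replicate hM
    exact ⟨H, hH, ⟨e⟩⟩) F hF (by rw [List.length_replicate]; exact hd)).1
  simp only [List.nil_append, List.length_replicate] at h1
  have hsq : ((-1 : ℤ) ^ r) * ((-1 : ℤ) ^ r) = 1 := by rw [← pow_add, ← two_mul, pow_mul, neg_one_sq, one_pow]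
  have h3 : NefQ.Q k (List.replicate r H) F = H28Int.D k (List.replicate r H') F := by
    have h4 : (-1 : ℤ) ^ r * H28Int.D k (List.replicate r H') F =
        (-1 : ℤ) ^ r * NefQ.Q k (List.replicate r H) F := by
      rw [← h1, NefQ.Q, List.length_replicate]
    linear_combination -((-1 : ℤ) ^ r) * h4 +
      (H28Int.D k (List.replicate r H') F - NefQ.Q k (List.replicate r H) F) * hsq
  omega

/-- The intersection with a module having a section is that with its zero locus. -/
theorem exists_cut_section [IsIntegral X] {M : X.Modules} (hM : PicF.IsInvertible M) {g : Γ(M, ⊤)} (hg : g ≠ 0)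
    {r : ℕ} (hd : topologicalKrullDim X ≤ ((r + 1 : ℕ) : WithBot ℕ∞)) :
    ∀ l : List X.Modules, (∀ A ∈ l, PicF.IsInvertible A) → l.length = r →
      ∃ C : X.Modules, Coh.IsCoh C ∧ topologicalKrullDim (CohB1.support C) ≤ (r : WithBot ℕ∞) ∧
        NefQ.Q k (M :: l) (Coh.structureModule X) = NefQ.Q k l C := by
  haveI := H28Int.isNoetherian k (X := X)
  intro l hl hlen
  subst hlen
  obtain ⟨M', hM', ⟨e₀⟩⟩ := H11Sym.exists_inverse hM
  let e := H10Coh.Tw.commIso M M' ≪≫ e₀
  obtain ⟨C, hC, hCd, -, -, heq⟩ := H28Int.Surface.exists_zero_locus k hl hd hM hM' e hg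
  have hO : Coh.IsCoh (Coh.structureModule X) := H28Int.Surface.isCoh_structure k
  have hsum : H28Int.D k (M :: l) (Coh.structureModule X) + H28Int.D k (M' :: l) (Coh.structureModule X) = 0 := by
    rw [← H28Int.D_cons_tensor k hl hM hM' hO ((Topology.IsInducing.subtypeVal.topologicalKrullDim_le).trans hd)]
    show H28Int.D k l _ - H28Int.D k l _ = 0
    rw [(H28Int.isAddFn_D k l hl).congr (PicGrp.tensorModIso e (Iso.refl _) ≪≫ H10Coh.Tw.leftUnitIso _), sub_self]
  refine ⟨C, hC, hCd, ?_⟩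
  simp only [NefQ.Q, List.length_cons, ← heq]
  linear_combination (-1 : ℤ) ^ (l.length + 1) * hsum

/-- A module with a nonzero section is nonnegative on powers of an ample class. -/
theorem Q_nonneg_of_section [IsIntegral X] {H : X.Modules} (hH : CohB1.IsAmple H) {M : X.Modules}
    (hM : PicF.IsInvertible M) {g : Γ(M, ⊤)} (hg : g ≠ 0) {r : ℕ}
    (hd : topologicalKrullDim X ≤ ((r + 1 : ℕ) : WithBot ℕ∞)) :
    0 ≤ NefQ.Q k (M :: List.replicate r H) (Coh.structureModule X) := by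
  obtain ⟨C, hC, hCd, h⟩ := exists_cut_section k hM hg hd (List.replicate r H)
    (fun A hA => List.eq_of_mem_replicate hA ▸ hH.1) List.length_replicate
  rw [h]
  exact Q_ample_nonneg k hH hC hCd

/-- A set of invertible modules closed under inverses with bounded degrees in dimension `≤ 1`. -/
structure Fam (P : X.Modules → Prop) : Prop where
  inv : ∀ L, P L → PicF.IsInvertible L
  symm : ∀ L, P L → ∀ L', PicF.IsInvertible L' → Nonempty (CohB1.tensorMod L L' ≅ Coh.structureModule X) → P L'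
  deg : ∀ F : X.Modules, Coh.IsCoh F → topologicalKrullDim (CohB1.support F) ≤ ((1 : ℕ) : WithBot ℕ∞) →
    ∃ B : ℤ, ∀ L, P L → |NefQ.Q k [L] F| ≤ B

variable {n : ℕ} (i : X ⟶ CohB1.ProjSpace n k) [IsClosedImmersion i]

/-- Bounded sections in each degree and uniform regularity of the twists by a family. -/
structure GoodB (P : X.Modules → Prop) (F : X.Modules) : Prop where
  h0 : ∀ d : ℤ, ∃ B : ℕ, ∀ L, P L → hd k (Pic13.twistOn k i (CohB1.tensorMod F L) d) 0 ≤ B
  reg : ∃ m₀ : ℕ, ∀ L, P L → Pic13.IsMRegular k i (CohB1.tensorMod F L) (m₀ : ℤ)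

variable {P : X.Modules → Prop} (hP : Fam k P)
include hP

omit [IsClosedImmersion i] in
theorem GoodB.congr {F G : X.Modules} (h : GoodB k i P F) (e : F ≅ G) : GoodB k i P G := by
  have e' : ∀ (L : X.Modules) (d : ℤ),
      Pic13.twistOn k i (CohB1.tensorMod F L) d ≅ Pic13.twistOn k i (CohB1.tensorMod G L) d :=
    fun L d => PicGrp.tensorModIso (PicGrp.tensorModIso e (Iso.refl L)) (Iso.refl _)
  obtain ⟨m, hm⟩ := h.reg
  refine ⟨fun d => ?_, ⟨m, fun L hL q hq => ?_⟩⟩
  · obtain ⟨B, hB⟩ := h.h0 d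
    exact ⟨B, fun L hL => (hd_congr (e' L d) 0).ge.trans (hB L hL)⟩
  · haveI := hm L hL q hq
    exact subsingleton_of_forall_eq 0 fun x => by
      rw [← H29RR.hhlin_id (k := k) _ q x, ← (e' L _).inv_hom_id, H29RR.hhlin_comp,
        Subsingleton.elim (Canon.HHlin k (e' L _).inv q x) 0, map_zero]

omit hP in
omit [IsClosedImmersion i] in
theorem GoodB.of_isZero {F : X.Modules} (hF : IsZero F) : GoodB k i P F := by
  haveI := H28Int.isNoetherian k (X := X)
  have hz : ∀ L d, IsZero (Pic13.twistOn k i (CohB1.tensorMod F L) d) := fun L d =>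
    NumTriv.isZero_tensor (NumTriv.isZero_tensor hF L) _
  exact ⟨fun d => ⟨0, fun L _ => (NumTriv.hd_zero_of_isZero k (hz L d) 0).le⟩, ⟨0, fun L _ q _ =>
    NumTriv.subsingleton_of_hd_zero k (LeadDev.isCoh_of_isZero (hz L _)) (NumTriv.hd_zero_of_isZero k (hz L _) q)⟩⟩

theorem GoodB.ext [IsAlgClosed k] {S : ShortComplex X.Modules} (hS : S.ShortExact) (h₁ : Coh.IsCoh S.X₁)
    (h₂ : Coh.IsCoh S.X₂) (h₃ : Coh.IsCoh S.X₃) (g₁ : GoodB k i P S.X₁) (g₃ : GoodB k i P S.X₃) :
    GoodB k i P S.X₂ := by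
  haveI := H28Int.isNoetherian k (X := X)
  have hT : ∀ {L : X.Modules} (_ : PicF.IsInvertible L) (d : ℤ) (p : ℕ),
      hd k (Pic13.twistOn k i (CohB1.tensorMod S.X₂ L) d) p ≤
        hd k (Pic13.twistOn k i (CohB1.tensorMod S.X₁ L) d) p +
          hd k (Pic13.twistOn k i (CohB1.tensorMod S.X₃ L) d) p := fun {L} hL d p =>
    (hd_shortExact (k := k) (H28Int.tensor_shortExact (H28Int.tensor_shortExact hS hL) ((TwistOn.fam i).inv d))
      (NumTriv.isCoh_tw k i h₁ hL d) (NumTriv.isCoh_tw k i h₂ hL d) (NumTriv.isCoh_tw k i h₃ hL d) p).1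
  obtain ⟨a, ha⟩ := g₁.reg
  obtain ⟨b, hb⟩ := g₃.reg
  refine ⟨fun d => ?_, ⟨max a b, fun L hL q hq => ?_⟩⟩
  · obtain ⟨B₁, hB₁⟩ := g₁.h0 d
    obtain ⟨B₃, hB₃⟩ := g₃.h0 d
    exact ⟨B₁ + B₃, fun L hL => (hT (hP.inv L hL) d 0).trans (Nat.add_le_add (hB₁ L hL) (hB₃ L hL))⟩
  · have hLi := hP.inv L hL
    refine NumTriv.subsingleton_of_hd_zero k (NumTriv.isCoh_tw k i h₂ hLi _) (Nat.eq_zero_of_le_zero ?_)
    haveI h1 := NumTriv.regular_mono k i (H11Ample.isCoh_tensor h₁ hLi) (b := ((max a b : ℕ) : ℤ)) (by omega)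
      (ha L hL) q hq
    haveI h3 := NumTriv.regular_mono k i (H11Ample.isCoh_tensor h₃ hLi) (b := ((max a b : ℕ) : ℤ)) (by omega)
      (hb L hL) q hq
    refine (hT hLi _ q).trans (le_of_eq ?_)
    simp [hd, Module.finrank_zero_of_subsingleton]

theorem goodB_zero {F : X.Modules} (hF : Coh.IsCoh F)
    (hd' : topologicalKrullDim (CohB1.support F) ≤ ((0 : ℕ) : WithBot ℕ∞)) : GoodB k i P F := by
  haveI := H28Int.isNoetherian k (X := X)
  have hs : ∀ {L : X.Modules} (_ : PicF.IsInvertible L) (d : ℤ),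
      topologicalKrullDim (CohB1.support (Pic13.twistOn k i (CohB1.tensorMod F L) d)) ≤ ((0 : ℕ) : WithBot ℕ∞) :=
    fun _ _ => (H28Int.dim_le_of_subset ((H25Euler.support_tensor_subset _ _).trans
      (H25Euler.support_tensor_subset _ _))).trans hd'
  have hE : ∀ {M G : X.Modules}, PicF.IsInvertible M → Coh.IsCoh G →
      topologicalKrullDim (CohB1.support G) ≤ ((0 : ℕ) : WithBot ℕ∞) →
      Curv2.euler k X (CohB1.tensorMod G M) = Curv2.euler k X G := fun {M G} hM hG hd0 =>
    (H25Euler.euler_congr (H10Coh.Tw.commIso G M)).trans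
      (H28Int.D_twist k (l := []) (by simp) hM hG (by simpa using hd0))
  refine ⟨fun d => ⟨hd k F 0, fun L hL => ?_⟩, ⟨0, fun L hL q hq => ?_⟩⟩
  · have hLi := hP.inv L hL
    have h := NumTriv.euler_eq_hd k (NumTriv.isCoh_tw k i hF hLi d) (hs hLi d)
    rw [show Curv2.euler k X (Pic13.twistOn k i (CohB1.tensorMod F L) d) = Curv2.euler k X F from
      (hE ((TwistOn.fam i).inv _) (H11Ample.isCoh_tensor hF hLi)
        ((H28Int.dim_le_of_subset (H25Euler.support_tensor_subset _ _)).trans hd')).trans (hE hLi hF hd'),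
      NumTriv.euler_eq_hd k hF hd'] at h
    exact le_of_eq (by exact_mod_cast h.symm)
  · exact NumTriv.subsingleton_of_hd_zero k (NumTriv.isCoh_tw k i hF (hP.inv L hL) _)
      (NumTriv.hd_of_dim k (NumTriv.isCoh_tw k i hF (hP.inv L hL) _) (hs (hP.inv L hL) _) hq)

omit hP [IsClosedImmersion i] in
/-- Degrees of the twisting modules are linear in the twist. -/
theorem Q_O {F : X.Modules} (hF : Coh.IsCoh F)
    (hd' : topologicalKrullDim (CohB1.support F) ≤ ((1 : ℕ) : WithBot ℕ∞)) (d : ℤ) :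
    NefQ.Q k [TwistOn.O i d] F = d * NefQ.Q k [TwistOn.O i 1] F := by
  have fam := TwistOn.fam i
  have hadd : ∀ a b : ℤ, NefQ.Q k [TwistOn.O i (a + b)] F =
      NefQ.Q k [TwistOn.O i a] F + NefQ.Q k [TwistOn.O i b] F := fun a b => by
    obtain ⟨e⟩ := fam.add a b
    rw [← NefBC.Q_congr k e, NefQ.Q_cons_tensor k (l := []) (by simp) (fam.inv a) (fam.inv b) hF hd']
  have h0 : NefQ.Q k [TwistOn.O i 0] F = 0 := by
    obtain ⟨z⟩ := fam.zero
    rw [NefBC.Q_congr k z, NumTriv.Q_structure]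
  induction d using Int.induction_on with
  | zero => rw [h0, zero_mul]
  | succ m ih => rw [hadd, ih]; ring
  | pred m ih =>
    have h := hadd (-(m : ℤ) - 1) 1
    rw [show -(m : ℤ) - 1 + 1 = -(m : ℤ) by ring, ih] at h
    linarith

omit hP in
/-- An isomorphism pulling a twist back to an integral closed subscheme kills sections. -/
theorem hd0_sub_eq_zero {Z : Scheme.{u}} (ζ : Z ⟶ X) [IsClosedImmersion ζ] {A : X.Modules}
    (f : A ⟶ (Coh.push ζ).obj (Coh.structureModule Z)) [Mono f] {L : X.Modules} (hL : PicF.IsInvertible L) (d : ℤ)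
    (hZ : Subsingleton Γ((Scheme.Modules.pullback ζ).obj (CohB1.tensorMod L (TwistOn.O i d)), ⊤)) :
    H25Index.hd k (Pic13.twistOn k i (CohB1.tensorMod A L) d) 0 = 0 := by
  have hd1 := (TwistOn.fam i).inv d
  let N := CohB1.tensorMod L (TwistOn.O i d)
  let P := (Coh.push ζ).obj (Coh.structureModule Z)
  obtain ⟨e₁⟩ := H10Coh.Tw.nonempty_push_tensor_iso ζ (Coh.structureModule Z)
    (N := N) (H11Ample.isInvertible_tensor hL hd1)
  let e : Pic13.twistOn k i (CohB1.tensorMod P L) d ≅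
      (Coh.push ζ).obj ((Scheme.Modules.pullback ζ).obj N) :=
    H10Coh.Tw.assoc P L (TwistOn.O i d) ≪≫ e₁ ≪≫ (Coh.push ζ).mapIso (H10Coh.Tw.leftUnitIso _)
  haveI := hZ
  haveI : Subsingleton Γ(Pic13.twistOn k i (CohB1.tensorMod P L) d, ⊤) :=
    subsingleton_of_forall_eq 0 fun s => by
      have h0 : e.hom.app ⊤ s = 0 :=
        Subsingleton.elim (α := Γ((Scheme.Modules.pullback ζ).obj N, ⊤)) _ _
      rw [← H22Alg.CMField.inv_hom_apply e ⊤ s, h0, map_zero]
  haveI : Subsingleton (Coh.HH X (Pic13.twistOn k i (CohB1.tensorMod P L) d) 0) :=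
    (H10Coh.HH0Equiv _).toEquiv.subsingleton
  obtain ⟨g, hg⟩ := NumTriv.exists_mono_tensor f hL
  haveI := hg
  obtain ⟨ν, hν⟩ : ∃ ν : Pic13.twistOn k i (CohB1.tensorMod A L) d ⟶
      Pic13.twistOn k i (CohB1.tensorMod P L) d, Mono ν := NumTriv.exists_mono_tensor g hd1
  haveI := hν
  haveI : Subsingleton (Coh.HH X (Pic13.twistOn k i (CohB1.tensorMod A L) d) 0) :=
    (H29RR.hhlin_zero_injective (k := k) ν).subsingleton
  exact Module.finrank_zero_of_subsingleton

variable [IsAlgClosed k] (hi : i ≫ CohB1.ProjSpace.toSpec n k = X ↘ Spec (CommRingCat.of k))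
include hi

omit hP in
/-- Bounded sections and uniform regularity from a hyperplane sequence. -/
theorem goodB_of_seq {A G : X.Modules} (hA : Coh.IsCoh A) (hG : Coh.IsCoh G) (hPi : ∀ L, P L → PicF.IsInvertible L)
    (a : CohB1.tensorMod A (TwistOn.O i (-1)) ⟶ A) (b : A ⟶ G) (w : a ≫ b = 0)
    (hS : (ShortComplex.mk a b w).ShortExact) (gG : GoodB k i P G) (d₀ : ℤ)
    (below : ∀ L, P L → ∀ d : ℤ, d < d₀ → hd k (Pic13.twistOn k i (CohB1.tensorMod A L) d) 0 = 0)
    (hχ : ∀ d : ℤ, ∀ C : ℕ, (∀ L, P L → hd k (Pic13.twistOn k i (CohB1.tensorMod A L) d) 0 ≤ C) →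
      (∀ L, P L → Curv2.euler k X (Pic13.twistOn k i (CohB1.tensorMod A L) d) =
        (hd k (Pic13.twistOn k i (CohB1.tensorMod A L) d) 0 : ℤ) -
          hd k (Pic13.twistOn k i (CohB1.tensorMod A L) d) 1) →
      ∃ β : ℕ, ∀ L, P L → hd k (Pic13.twistOn k i (CohB1.tensorMod A L) d) 1 ≤ β) :
    GoodB k i P A := by
  haveI := H28Int.isNoetherian k (X := X)
  have h0 : ∀ d : ℤ, ∃ B : ℕ, ∀ L, P L → hd k (Pic13.twistOn k i (CohB1.tensorMod A L) d) 0 ≤ B := by
    intro d
    rcases lt_or_ge d d₀ with hd₀ | hd₀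
    · exact ⟨0, fun L hL => (below L hL d hd₀).le⟩
    · induction d, hd₀ using Int.le_induction with
      | base =>
        obtain ⟨B, hB⟩ := gG.h0 d₀
        refine ⟨B, fun L hL => (NumTriv.hd0_step k i (H11Ample.isCoh_tensor hA (hPi L hL))
          (H11Ample.isCoh_tensor hG (hPi L hL)) (NumTriv.exists_seq_tensor k i a b w hS (hPi L hL)) d₀).trans ?_⟩
        rw [below L hL _ (by omega), zero_add]
        exact hB L hL
      | succ d _ ih =>
        obtain ⟨B₁, hB₁⟩ := ih
        obtain ⟨B, hB⟩ := gG.h0 (d + 1)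
        refine ⟨B₁ + B, fun L hL => (NumTriv.hd0_step k i (H11Ample.isCoh_tensor hA (hPi L hL))
          (H11Ample.isCoh_tensor hG (hPi L hL)) (NumTriv.exists_seq_tensor k i a b w hS (hPi L hL)) (d + 1)).trans ?_⟩
        rw [show d + 1 - 1 = d by ring]
        exact Nat.add_le_add (hB₁ L hL) (hB L hL)
  obtain ⟨m, hm⟩ := gG.reg
  have hE : ∀ L, P L → Curv2.euler k X (Pic13.twistOn k i (CohB1.tensorMod A L) ((m : ℤ) - 1)) =
      (hd k (Pic13.twistOn k i (CohB1.tensorMod A L) ((m : ℤ) - 1)) 0 : ℤ) -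
        hd k (Pic13.twistOn k i (CohB1.tensorMod A L) ((m : ℤ) - 1)) 1 := fun L hL => by
    obtain ⟨f', g', w', hS'⟩ := NumTriv.exists_seq_tensor k i a b w hS (hPi L hL)
    exact NumTriv.euler_eq_sub k fun p hp => (S12112.result k n X i hi _ _ (H11Ample.isCoh_tensor hA (hPi L hL))
      (H11Ample.isCoh_tensor hG (hPi L hL)) f' g' w' hS' m (hm L hL)).1 p _ hp (by omega)
  obtain ⟨C, hC⟩ := h0 ((m : ℤ) - 1)
  obtain ⟨β, hβ⟩ := hχ _ C hC hE
  refine ⟨h0, ⟨m + β, fun L hL => ?_⟩⟩
  obtain ⟨f', g', w', hS'⟩ := NumTriv.exists_seq_tensor k i a b w hS (hPi L hL)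
  refine NumTriv.regular_mono k i (H11Ample.isCoh_tensor hA (hPi L hL)) ?_
    (S12112.result k n X i hi _ _ (H11Ample.isCoh_tensor hA (hPi L hL))
      (H11Ample.isCoh_tensor hG (hPi L hL)) f' g' w' hS' m (hm L hL)).2.2.2
  have := hβ L hL
  simp only [hd] at this
  push_cast
  omega

/-- The one-dimensional step. -/
theorem goodB_curve {Z : Scheme.{u}} (ζ : Z ⟶ X) [IsClosedImmersion ζ] [IsIntegral Z]
    (hZ : topologicalKrullDim (Set.range ζ) = ((1 : ℕ) : WithBot ℕ∞)) {A : X.Modules} (hA : Coh.IsCoh A)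
    (hsupp : CohB1.support A ⊆ Set.range ζ)
    (f : A ⟶ (Coh.push ζ).obj (Coh.structureModule Z)) [Mono f] : GoodB k i P A := by
  haveI := H28Int.isNoetherian k (X := X)
  have fam := TwistOn.fam i
  have hZd : topologicalKrullDim Z = ((1 : ℕ) : WithBot ℕ∞) := by
    rw [ζ.isClosedEmbedding.isEmbedding.toHomeomorph.isHomeomorph.topologicalKrullDim_eq]
    exact hZ
  letI : Z.Over (Spec (CommRingCat.of k)) := ⟨ζ ≫ (X ↘ Spec (CommRingCat.of k))⟩
  haveI : IsProper (Z ↘ Spec (CommRingCat.of k)) := inferInstanceAs (IsProper (ζ ≫ _))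
  let O1 := (Scheme.Modules.pullback ζ).obj (TwistOn.O i 1)
  have hO1 : CohB1.IsAmple O1 := isAmple_pullback_of_isAffineHom ζ (TwistOn.isAmple_one i)
  let Zq := ClSub.quotMod ζ.ker
  have hZq : Coh.IsCoh Zq := LeadDev.isCoh_push_structure _
  have hZqd := NefBC.support_quotMod_ker_le k ζ hZd
  have hpos : 0 < NefQ.Q k [TwistOn.O i 1] Zq := by
    have h := Nakai.top_pos k hO1.1 (Nakai.pos_of_isAmple k hO1) (d := 1) one_pos hZd
    rw [← NefQ.Q_quotMod_ker k ζ rfl (List.forall_mem_singleton.2 (fam.inv 1)) (by simpa using hZd)]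
    exact h
  obtain ⟨B, hB⟩ := hP.deg Zq hZq hZqd
  obtain ⟨G, a, b, w, hS, hG, hGd⟩ := NumTriv.exists_seq k i ζ hZ.le hA hsupp f
  refine goodB_of_seq k i hi hA hG hP.inv a b w hS (goodB_zero k i hP hG ((NumTriv.lt_succ_iff' _ 0).1 hGd))
    (-B) (fun L hL d hd₀ => hd0_sub_eq_zero k i ζ f (hP.inv L hL) d (subsingleton_of_forall_eq 0 fun s => ?_))
    fun d C hC hE => ?_
  · by_contra hs
    have hN := H11Ample.isInvertible_tensor (hP.inv L hL) (fam.inv d)
    have h := Q_nonneg_of_section k hO1 (isInvertible_pullback ζ hN) hs (r := 0) (by simp [hZd])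
    have h2 := NefQ.Q_quotMod_ker k ζ rfl (l := [CohB1.tensorMod L (TwistOn.O i d)])
      (List.forall_mem_singleton.2 hN) (by simpa using hZd)
    simp only [List.replicate_zero] at h
    simp only [List.map_cons, List.map_nil] at h2
    rw [h2, NefQ.Q_cons_tensor k (l := []) (by simp) (hP.inv L hL) (fam.inv d) hZq hZqd, Q_O k i hZq hZqd] at h
    have h3 := (abs_le.1 (hB L hL)).2
    have h4 : d * NefQ.Q k [TwistOn.O i 1] Zq ≤ d * 1 :=
      mul_le_mul_of_nonpos_left hpos (by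
        have := (abs_nonneg _).trans (hB L hL)
        omega)
    simp only [Zq] at h3 h4
    linarith
  · have hAd : topologicalKrullDim (CohB1.support (Pic13.twistOn k i A d)) ≤ ((1 : ℕ) : WithBot ℕ∞) :=
      (H28Int.dim_le_of_subset ((H25Euler.support_tensor_subset _ _).trans hsupp)).trans hZ.le
    obtain ⟨B', hB'⟩ := hP.deg _ (H11Ample.isCoh_tensor hA (fam.inv d)) hAd
    refine ⟨((C : ℤ) + B' - Curv2.euler k X (Pic13.twistOn k i A d)).toNat, fun L hL => ?_⟩
    have he : Curv2.euler k X (Pic13.twistOn k i (CohB1.tensorMod A L) d) =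
        Curv2.euler k X (Pic13.twistOn k i A d) + NefQ.Q k [L] (Pic13.twistOn k i A d) := by
      refine (H25Euler.euler_congr (NumTriv.swapIso A L (TwistOn.O i d) ≪≫ H10Coh.Tw.commIso _ L)).trans ?_
      show Curv2.euler k X (CohB1.tensorMod L (Pic13.twistOn k i A d)) =
        _ + (-1 : ℤ) ^ 1 * (Curv2.euler k X _ - Curv2.euler k X (CohB1.tensorMod L _))
      ring
    have h1 := hC L hL
    have h2 := hE L hL
    have h3 : -B' ≤ NefQ.Q k [L] (Pic13.twistOn k i A d) := (abs_le.1 (hB' L hL)).1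
    have h4 := Int.self_le_toNat ((C : ℤ) + B' - Curv2.euler k X (Pic13.twistOn k i A d))
    omega

/-- The dévissage in dimension `≤ 1`. -/
theorem goodB_le_one (F : X.Modules) (hF : Coh.IsCoh F)
    (hd' : topologicalKrullDim (CohB1.support F) ≤ ((1 : ℕ) : WithBot ℕ∞)) : GoodB k i P F := by
  haveI := H28Int.isNoetherian k (X := X)
  refine LeadDev.devissage_induction (CohB1.support F) (GoodB k i P) (fun _ _ ⟨e⟩ h => h.congr k i hP e)
    (fun _ h => GoodB.of_isZero k i h) (fun S hS h₁ h₂ h₃ g₁ g₃ => GoodB.ext k i hP hS h₁ h₂ h₃ g₁ g₃)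
    ?_ F hF le_rfl
  intro Z ζ _ _ hsub _ I ι _ hI
  haveI : I.IsQuasicoherent := hI
  let A := (Coh.push ζ).obj I
  have hA : Coh.IsCoh A := H10Coh.isCoh_of_mono ((Coh.push ζ).map ι)
    (H10Coh.isQuasicoherent_pushforward ζ I) (LeadDev.isCoh_push_structure ζ)
  have hAs : CohB1.support A ⊆ Set.range ζ := fun x hx => by
    by_contra hxr
    exact LeadDev.notMem_support_push ζ I hxr hx
  by_cases hr : topologicalKrullDim (Set.range ζ) ≤ ((0 : ℕ) : WithBot ℕ∞)
  · exact goodB_zero k i hP hA ((H28Int.dim_le_of_subset hAs).trans hr)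
  exact goodB_curve k i hP hi ζ (NumTriv.eq_succ_dim ((H28Int.dim_le_of_subset hsub).trans hd') hr) hA hAs
    ((Coh.push ζ).map ι)

end Groth.Agent.H12Pic.Hodge
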