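import Groth.Agent.H28Int.Positive

/-!
# Every point of the zero locus of a section lies on a component of codimension one
-/

set_option autoImplicit false
set_option linter.style.haveILetI false
universe u

open CategoryTheory CategoryTheory.Limits AlgebraicGeometry Opposite TopologicalSpace
open Groth.Agent.H8Props.FieldDim (cdim)

namespace Groth.Agent.H12Pic.Hodge

variable {X : Scheme.{u}} (k : Type u) [Field k] [X.Over (Spec (CommRingCat.of k))] [IsProper (X ↘ Spec (CommRingCat.of k))]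

open H28Int in
include k in
/-- A point of the zero locus generizes to one whose closure has dimension one less. -/
theorem exists_component_cut {L : X.Modules} (hL : PicF.IsInvertible L) (g : Γ(L, ⊤)) {ξ : X}
    (hξ : ξ ∈ H11Ample.gen L g) {w₀ : X} (hw₀ : w₀ ∈ closure ({ξ} : Set X) \ (H11Ample.gen L g : Set X)) :
    ∃ w, w ⤳ w₀ ∧ w ∉ H11Ample.gen L g ∧ cdim ξ = cdim w + 1 := by
  haveI := isNoetherian k (X := X)
  let G := H11Ample.gen L g
  let T : Set X := closure {ξ} \ G
  have hT : IsClosed T := isClosed_closure.sdiff G.2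
  haveI : QuasiSober T := hT.isClosedEmbedding_subtypeVal.quasiSober
  let Cmp : Set T := irreducibleComponent ⟨w₀, hw₀⟩
  have hirr : IsIrreducible Cmp := isIrreducible_irreducibleComponent
  let wT := hirr.genericPoint
  have hwgen : closure {wT} = Cmp := hirr.closure_genericPoint isClosed_irreducibleComponent
  have hmax : ∀ y : T, y ⤳ wT → y = wT := fun y hy => by
    have hsub : Cmp ⊆ closure {y} := hwgen ▸ closure_minimal
      (Set.singleton_subset_iff.2 (specializes_iff_mem_closure.1 hy)) isClosed_closure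
    have heq := eq_irreducibleComponent (isIrreducible_singleton.closure.isPreirreducible) hsub
    have h' : wT ⤳ y := specializes_iff_mem_closure.2 (by
      rw [hwgen]
      exact heq.le (subset_closure rfl))
    exact (hy.antisymm h').eq
  obtain ⟨w, hw⟩ : ∃ w : X, w = wT.1 := ⟨_, rfl⟩
  have hwξ : ξ ⤳ w := specializes_iff_mem_closure.2 (hw ▸ wT.2.1)
  have hwG : w ∉ G := hw ▸ wT.2.2
  have hw0 : w ⤳ w₀ := hw ▸ ((specializes_iff_mem_closure.2
    (hwgen.ge mem_irreducibleComponent)).map continuous_subtype_val)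
  refine ⟨w, hw0, hwG, H22Alg.VarDim.cdim_of_immediate k X (X ↘ Spec (CommRingCat.of k)) hwξ
    (fun e => hwG (e ▸ hξ)) fun z hz hzw => ?_⟩
  by_contra hcon
  rw [not_or] at hcon
  by_cases hzG : z ∈ G
  swap
  · exact hcon.2 (hw ▸ congrArg Subtype.val (hmax ⟨z, specializes_iff_mem_closure.1 hz, hzG⟩
      ((subtype_specializes_iff _ _).2 (hw ▸ hzw))))
  obtain ⟨W, hW, hwW, -⟩ := exists_isAffineOpen_mem_and_subset (U := (⊤ : X.Opens)) (x := w) trivial
  obtain ⟨V, e, hwV, he⟩ := H11Ample.exists_gen hL w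
  obtain ⟨U, hU, hwU, hUV⟩ := exists_isAffineOpen_mem_and_subset (U := W ⊓ V) (x := w) ⟨hwW, hwV⟩
  have he' := he.res (hUV.trans inf_le_right)
  obtain ⟨c, hc⟩ := H11Ample.exists_coeff he' (L.presheaf.map (homOfLE (le_top : U ≤ ⊤)).op g)
  have hb : G ⊓ U = X.basicOpen c := H11Ample.gen_inf_eq_basicOpen he' g c hc
  have hzU : z ∈ U := hzw.mem_open U.2 hwU
  have hξU : ξ ∈ U := hz.mem_open U.2 hzU
  have hr : ∀ y ∈ U, ∃ p : PrimeSpectrum Γ(X, U), hU.fromSpec p = y := fun y hy =>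
    (hU.range_fromSpec.ge hy : y ∈ Set.range hU.fromSpec)
  obtain ⟨q, hq⟩ := hr w hwU
  obtain ⟨p, hp⟩ := hr z hzU
  obtain ⟨P, hP⟩ := hr ξ hξU
  have hmemc : ∀ t : PrimeSpectrum Γ(X, U), (hU.fromSpec t ∈ G ↔ c ∉ t.asIdeal) := fun t => by
    have h1 : hU.fromSpec t ∈ X.basicOpen c ↔ c ∉ t.asIdeal := by
      have h2 : hU.fromSpec t ∈ hU.fromSpec '' ((PrimeSpectrum.basicOpen c : Opens (PrimeSpectrum Γ(X, U))) :
          Set (PrimeSpectrum Γ(X, U))) ↔ hU.fromSpec t ∈ X.basicOpen c :=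
        Iff.of_eq (congrArg (hU.fromSpec t ∈ ·) (congrArg SetLike.coe (hU.fromSpec_image_basicOpen c)))
      rw [← h2]
      exact hU.fromSpec.isOpenEmbedding.injective.mem_set_image
    rw [← h1, ← hb]
    exact ⟨fun h => ⟨h, hU.range_fromSpec.le ⟨t, rfl⟩⟩, fun h => h.1⟩
  have hle : ∀ {s t : PrimeSpectrum Γ(X, U)}, hU.fromSpec s ⤳ hU.fromSpec t → s.asIdeal ≤ t.asIdeal :=
    fun h => (PrimeSpectrum.le_iff_specializes _ _).mpr
      (hU.fromSpec.isOpenEmbedding.isInducing.specializes_iff.mp h)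
  have hPp : P.asIdeal < p.asIdeal := lt_of_le_of_ne (hle (hP ▸ hp ▸ hz)) fun e' =>
    hcon.1 (by rw [← hp, ← hP, PrimeSpectrum.ext e'])
  have hpq : p.asIdeal < q.asIdeal := lt_of_le_of_ne (hle (hp ▸ hq ▸ hzw)) fun e' =>
    hcon.2 (by rw [← hp, ← hq, PrimeSpectrum.ext e'])
  haveI := P.2
  let π := Ideal.Quotient.mk P.asIdeal
  haveI : IsNoetherianRing Γ(X, U) := IsLocallyNoetherian.component_noetherian ⟨U, hU⟩
  have hpr : ∀ t : PrimeSpectrum Γ(X, U), P.asIdeal ≤ t.asIdeal → (t.asIdeal.map π).IsPrime := fun t ht => by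
    haveI := t.2
    exact Ideal.isPrime_map_quotientMk_of_isPrime ht
  haveI := hpr p hPp.le
  haveI := hpr q (hPp.le.trans hpq.le)
  have hcomap : ∀ t : PrimeSpectrum Γ(X, U), P.asIdeal ≤ t.asIdeal → (t.asIdeal.map π).comap π = t.asIdeal :=
    fun t ht => by rw [Ideal.comap_map_quotientMk, sup_eq_right.2 ht]
  have h1 : (⊥ : Ideal (Γ(X, U) ⧸ P.asIdeal)) < p.asIdeal.map π := bot_lt_iff_ne_bot.2 fun h0 => hPp.ne (by
    rw [← hcomap p hPp.le, h0, ← RingHom.ker_eq_comap_bot, Ideal.mk_ker])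
  have h2 : p.asIdeal.map π < q.asIdeal.map π := lt_of_le_of_ne (Ideal.map_mono hpq.le) fun h0 => hpq.ne (by
    rw [← hcomap p hPp.le, h0, hcomap q (hPp.le.trans hpq.le)])
  have hmin : q.asIdeal.map π ∈ (Ideal.span {π c}).minimalPrimes := by
    refine ⟨⟨inferInstance, (Ideal.span_singleton_le_iff_mem _).2 (Ideal.mem_map_of_mem π ?_)⟩,
      fun J ⟨hJ, hJc⟩ hJq => ?_⟩
    · by_contra hn
      exact hwG (hq ▸ (hmemc q).2 hn)
    · let t : PrimeSpectrum Γ(X, U) := ⟨J.comap π, Ideal.IsPrime.comap π⟩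
      have htq : t.asIdeal ≤ q.asIdeal := (Ideal.comap_mono hJq).trans (hcomap q (hPp.le.trans hpq.le)).le
      have htP : P.asIdeal ≤ t.asIdeal := fun a ha => by
        show π a ∈ J
        rw [Ideal.Quotient.eq_zero_iff_mem.2 ha]
        exact zero_mem _
      have hspec : ∀ {s t : PrimeSpectrum Γ(X, U)}, s.asIdeal ≤ t.asIdeal → hU.fromSpec s ⤳ hU.fromSpec t :=
        fun h => ((PrimeSpectrum.le_iff_specializes _ _).1 h).map hU.fromSpec.continuous
      have hnG : hU.fromSpec t ∉ G := fun h =>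
        (hmemc t).1 h (hJc (Ideal.mem_span_singleton_self _))
      have hteq := hmax ⟨hU.fromSpec t, specializes_iff_mem_closure.1 (hP ▸ hspec htP), hnG⟩
        ((subtype_specializes_iff _ _).2 (hw ▸ hq ▸ hspec htq))
      have : t = q := hU.fromSpec.isOpenEmbedding.injective
        ((congrArg Subtype.val hteq).trans (hw.symm.trans hq.symm))
      rw [← this]
      exact Ideal.map_comap_le
  have hh := Ideal.height_le_one_of_isPrincipal_of_mem_minimalPrimes (Ideal.span {π c}) _ hmin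
  have h3 := Ideal.height_strict_mono_of_isPrime_of_isPrime h2
  have h4 := Ideal.height_strict_mono_of_isPrime_of_isPrime h1
  have hfin := h3.trans_le hh
  rw [Ideal.height_bot] at h4
  exact absurd (Order.one_le_iff_pos.2 h4) (not_le.2 hfin)

end Groth.Agent.H12Pic.Hodge
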