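import Groth.Agent.H12Pic.Hodge.SurfFam

/-!
# A family with bounded degrees and squares bounded below on a surface is bounded

The Euler characteristics of `L(d)` and `L⁻¹(d)` add up to a number bounded below, so the hyperplane
sequence gives uniform regularity, finitely many Euler functions and uniform presentations.
-/

set_option autoImplicit false
set_option linter.style.haveILetI false
set_option linter.unusedSectionVars false
universe u

open CategoryTheory CategoryTheory.Limits AlgebraicGeometry TopologicalSpace Opposite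
open Groth.Agent.H11Ample Groth.Agent.H22Alg Groth.Agent.H25Index
open Groth.Agent.H25Theta (pb pT pC pI tI)

noncomputable section

namespace Groth.Agent.H12Pic.Hodge

variable {X : Scheme.{u}} (k : Type u) [Field k] [IsAlgClosed k] [X.Over (Spec (CommRingCat.of k))]
  [IsProper (X ↘ Spec (CommRingCat.of k))] {n : ℕ} (i : X ⟶ CohB1.ProjSpace n k) [IsClosedImmersion i]
  {P : X.Modules → Prop}

include k

/-- The kernels of the duals of presentations form a bounded set. -/
theorem bdd_of_presentation (A B : X.Modules) (hA : Coh.IsCoh A) (hB : Coh.IsCoh B) :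
    Bdd.Bdd k X fun L => ∃ (L' : X.Modules) (v : B ⟶ A), PicF.IsInvertible L' ∧
      Nonempty (cokernel v ≅ L') ∧ Nonempty (CohB1.tensorMod L' L ≅ Coh.structureModule X) := by
  haveI := H28Int.isNoetherian k (X := X)
  let O := Coh.structureModule X
  have hO : Coh.IsCoh O := H10Coh.isCoh_structureModule' X
  refine (Bdd.bdd_homKer_fixed (H29Ref.isCoh_homSh A O hA hO) (H29Ref.isCoh_homSh B O hB hO)).mono
    fun L ⟨L', v, hL', ⟨ev⟩, ⟨eL⟩⟩ => ?_
  have hinv : PicF.IsInvertible (cokernel v) := H11Tilde.isInvertible_of_iso ev.symm hL'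
  obtain ⟨e₁⟩ := H17.FLI.nonempty_homSh_tensor_iso hinv L
  let e₂ : CohB1.tensorMod (cokernel v) L ≅ O := tI ev (Iso.refl L) ≪≫ eL
  haveI := H10Coh.SheafHom.hasSheafHom (cokernel v)
  let e₃ : RefHull.homSh (cokernel v) O ≅ L :=
    (H10Coh.SheafHom.homShIso _ _).symm ≪≫ (DCoh.sheafHom (cokernel v)).mapIso e₂.symm ≪≫
      H10Coh.SheafHom.homShIso _ _ ≪≫ e₁
  obtain ⟨e₄⟩ := Bdd.nonempty_kernel_homShPre v O
  exact ⟨_, ⟨Bdd.homShPre v O, ⟨Iso.refl _⟩⟩, ⟨e₄ ≪≫ e₃⟩⟩

variable [IsIntegral X] (hi : i ≫ CohB1.ProjSpace.toSpec n k = X ↘ Spec (CommRingCat.of k))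
include hi

open MumfordBdd CMField in
/-- A family with uniform regularity and finitely many Euler functions is bounded. -/
theorem bdd_of_euler (hP : Fam k P) {κ : Type} [Finite κ] (φ : κ → ℤ → ℤ) (m : ℤ)
    (hreg : ∀ L, P L → Pic13.IsMRegular k i L m)
    (hφ : ∀ L, P L → ∃ j, ∀ d, Curv2.euler k X (Pic13.twistOn k i L d) = φ j d) : Bdd.Bdd k X P := by
  haveI := CMHyper.noetherian k n
  haveI := MumfordBound.proper_toSpec (k := k) (n := n)
  haveI : IsLocallyNoetherian X := LocallyOfFiniteType.isLocallyNoetherian i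
  haveI := H28Int.isNoetherian k (X := X)
  have hs := setup k n
  choose a b hab using fun j : κ => exists_presentation (k := k) (n := n) m (φ j)
  let A := fun j => (Scheme.Modules.pullback i).obj (∐ fun _ : Fin (a j) => Twist.twistProjSpace n k (-m))
  let B := fun j => (Scheme.Modules.pullback i).obj (∐ fun _ : Fin (b j) => Twist.twistProjSpace n k (-(m + 1)))
  have hA : ∀ j, Coh.IsCoh (A j) := fun j => H17.ConsProp.isCoh_pullback i
    (H10Coh.isCoh_sigma _ fun _ => H11Ample.isCoh_of_isInvertible (hs.fam.inv _))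
  have hB : ∀ j, Coh.IsCoh (B j) := fun j => H17.ConsProp.isCoh_pullback i
    (H10Coh.isCoh_sigma _ fun _ => H11Ample.isCoh_of_isInvertible (hs.fam.inv _))
  refine (Bdd.Bdd.iUnion fun j => bdd_of_presentation k (A j) (B j) (hA j) (hB j)).subset fun L hL => ?_
  obtain ⟨L', hL', ⟨e₀⟩⟩ := H11Sym.exists_inverse (hP.inv L hL)
  have hP' := hP.symm L hL L' hL' ⟨H10Coh.Tw.commIso L L' ≪≫ e₀⟩
  obtain ⟨j, hj⟩ := hφ L' hP'
  refine ⟨j, L', ?_⟩
  have hc := H11Ample.isCoh_of_isInvertible hL'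
  have hE : Coh.IsCoh ((Coh.push i).obj L') := H10Coh.isCoh_push_of_isFinite i _ hc
  obtain ⟨v, ⟨e⟩⟩ := hab j _ hE (fun q hq => (van_push_iff i hc q _).2 (hreg L' hP' q hq)) fun d => by
    have hd := hs.fam.inv d
    obtain ⟨e⟩ := H10Coh.Tw.nonempty_push_tensor_iso i L' hd
    haveI : (CohB1.tensorMod L' ((Scheme.Modules.pullback i).obj (Twist.twistProjSpace n k d))).IsQuasicoherent :=
      (H11Ample.isCoh_tensor hc (H11Ample.isInvertible_pullback i hd)).1
    rw [H25Euler.euler_congr e, H28Int.Push.euler_push k i hi]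
    exact hj d
  haveI : (Scheme.Modules.pullback i).IsLeftAdjoint :=
    (Scheme.Modules.pullbackPushforwardAdjunction i).isLeftAdjoint
  haveI : (Scheme.Modules.pullback i).Additive :=
    (Scheme.Modules.pullbackPushforwardAdjunction i).left_adjoint_additive
  exact ⟨(Scheme.Modules.pullback i).map v, hL', ⟨(PreservesCokernel.iso (Scheme.Modules.pullback i) v).symm ≪≫
    (Scheme.Modules.pullback i).mapIso e ≪≫
    @asIso _ _ _ _ _ (H24Hilb.Closed.isIso_counit_of_isClosedImmersion i L')⟩, ⟨e₀⟩⟩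

/-- Bounded degrees and squares bounded below on a projective integral surface: bounded. -/
theorem bdd_surface (hdim : topologicalKrullDim X = ((2 : ℕ) : WithBot ℕ∞)) (hP : Fam k P)
    (hq : ∃ B : ℤ, ∀ L, P L → -B ≤ NefQ.Q k [L, L] (Coh.structureModule X)) : Bdd.Bdd k X P := by
  classical
  haveI := H28Int.isNoetherian k (X := X)
  obtain ⟨Bq, hBq⟩ := hq
  have fam := TwistOn.fam i
  let O := Coh.structureModule X
  have hO : Coh.IsCoh O := H10Coh.isCoh_structureModule' X
  have hOd : topologicalKrullDim (CohB1.support O) ≤ ((2 : ℕ) : WithBot ℕ∞) :=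
    (Topology.IsInducing.subtypeVal.topologicalKrullDim_le).trans hdim.le
  let A := (Coh.push (𝟙 X)).obj O
  let eA : A ≅ O := H28Int.Surface.pushIdIso
  have hA : Coh.IsCoh A := LeadDev.isCoh_push_structure (𝟙 X)
  have hrange : topologicalKrullDim (Set.range (𝟙 X : X ⟶ X)) = ((2 : ℕ) : WithBot ℕ∞) := by
    rw [← (𝟙 X : X ⟶ X).isClosedEmbedding.isEmbedding.toHomeomorph.isHomeomorph.topologicalKrullDim_eq, hdim]
  obtain ⟨G, a, b, w, hS, hG, hGd⟩ := NumTriv.exists_seq k i (𝟙 X) hrange.le hA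
    (fun x _ => ⟨x, rfl⟩) (𝟙 A)
  have hG1 : topologicalKrullDim (CohB1.support G) ≤ ((1 : ℕ) : WithBot ℕ∞) := (NumTriv.lt_succ_iff' _ 1).1 hGd
  have gG : GoodB k i P G := goodB_le_one k i hP hi G hG hG1
  -- degrees on the hyperplane section
  have hGdeg : ∀ N : X.Modules, PicF.IsInvertible N →
      H28Int.D k [N] G = H28Int.D k [TwistOn.O i (-1), N] O ∧
        NefQ.Q k [N] G = NefQ.Q k [N, TwistOn.O i 1] O := by
    intro N hN
    have hl : ∀ M ∈ [N], PicF.IsInvertible M := List.forall_mem_singleton.2 hN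
    have hadd := (H28Int.isAddFn_D k [N] hl).add _ hS (H11Ample.isCoh_tensor hA (fam.inv _)) hA hG
    change H28Int.D k [N] A = H28Int.D k [N] (CohB1.tensorMod A (TwistOn.O i (-1))) + H28Int.D k [N] G at hadd
    have h1 : H28Int.D k [N] G = H28Int.D k [TwistOn.O i (-1), N] O := by
      show _ = H28Int.D k [N] O - H28Int.D k [N] (CohB1.tensorMod (TwistOn.O i (-1)) O)
      rw [← (H28Int.isAddFn_D k [N] hl).congr eA,
        ← (H28Int.isAddFn_D k [N] hl).congr (H10Coh.Tw.commIso A _ ≪≫ tI (Iso.refl (TwistOn.O i (-1))) eA)]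
      omega
    refine ⟨h1, ?_⟩
    obtain ⟨e⟩ := TwistOn.inv_one i
    have hsum : H28Int.D k [TwistOn.O i 1, N] O + H28Int.D k [TwistOn.O i (-1), N] O = 0 := by
      rw [← H28Int.D_cons_tensor k hl (fam.inv 1) (fam.inv (-1)) hO hOd]
      show H28Int.D k [N] _ - H28Int.D k [N] _ = 0
      rw [(H28Int.isAddFn_D k [N] hl).congr (PicGrp.tensorModIso e (Iso.refl _) ≪≫ H10Coh.Tw.leftUnitIso _), sub_self]
    rw [NefQ.Q_perm k (List.Perm.swap (TwistOn.O i 1) N [])
      (List.forall_mem_cons.2 ⟨hN, List.forall_mem_singleton.2 (fam.inv 1)⟩)]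
    simp only [NefQ.Q, List.length_cons, List.length_nil, h1, zero_add, pow_succ, pow_zero, one_mul, neg_mul, neg_neg]
    linarith
  obtain ⟨Bγ, hBγ⟩ := hP.deg G hG hG1
  let δ := NefQ.Q k [TwistOn.O i 1] G
  have hδ : 0 < δ := by
    show 0 < NefQ.Q k [TwistOn.O i 1] G
    rw [(hGdeg _ (fam.inv 1)).2]
    exact Nakai.top_pos k (fam.inv 1) (Nakai.pos_of_isAmple k (TwistOn.isAmple_one i)) (d := 2) two_pos hdim
  -- the modules `L(d)`
  let eT : ∀ (L : X.Modules) (d : ℤ), Pic13.twistOn k i (CohB1.tensorMod A L) d ≅ Pic13.twistOn k i L d :=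
    fun L d => tI (tI eA (Iso.refl L) ≪≫ H10Coh.Tw.leftUnitIso L) (Iso.refl _)
  let e : X.Modules → ℤ → ℤ := fun L d => H28Int.D k [L] (TwistOn.O i d)
  have heχ : ∀ L d, Curv2.euler k X (Pic13.twistOn k i L d) = Curv2.euler k X (TwistOn.O i d) - e L d := fun L d => by
    show Curv2.euler k X (CohB1.tensorMod L (TwistOn.O i d)) =
      _ - (Curv2.euler k X _ - Curv2.euler k X (CohB1.tensorMod L _))
    ring
  have hstep : ∀ L, PicF.IsInvertible L → ∀ d, e L d = e L (d - 1) + H28Int.D k [L] G := by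
    intro L hL d
    have hl : ∀ M ∈ [TwistOn.O i (-1), L], PicF.IsInvertible M :=
      List.forall_mem_cons.2 ⟨fam.inv _, List.forall_mem_singleton.2 hL⟩
    have h := H28Int.D_twist k hl (fam.inv d) hO hOd
    rw [(H28Int.isAddFn_D k _ hl).congr (H10Coh.Tw.rightUnitIso (TwistOn.O i d)), ← (hGdeg L hL).1] at h
    change H28Int.D k [L] (TwistOn.O i d) - H28Int.D k [L] (CohB1.tensorMod (TwistOn.O i (-1)) (TwistOn.O i d)) = _ at h
    obtain ⟨z⟩ := fam.add (-1) d
    rw [(H28Int.isAddFn_D k [L] (List.forall_mem_singleton.2 hL)).congr z, show -1 + d = d - 1 by ring] at h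
    show H28Int.D k [L] (TwistOn.O i d) = H28Int.D k [L] (TwistOn.O i (d - 1)) + _
    linarith
  have hlin : ∀ L, PicF.IsInvertible L → ∀ d, e L d = e L 0 + d * H28Int.D k [L] G := by
    intro L hL d
    induction d using Int.induction_on with
    | zero => ring
    | succ j ih => rw [hstep L hL, show (j : ℤ) + 1 - 1 = j by ring, ih]; ring
    | pred j ih => rw [hstep L hL] at ih; linarith
  -- `χ(L(d)) + χ(L⁻¹(d))`
  have hsym : ∀ L L', PicF.IsInvertible L → PicF.IsInvertible L' →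
      (CohB1.tensorMod L L' ≅ O) → ∀ d, Curv2.euler k X (Pic13.twistOn k i L d) +
        Curv2.euler k X (Pic13.twistOn k i L' d) =
          2 * Curv2.euler k X (TwistOn.O i d) + NefQ.Q k [L, L] O := by
    intro L L' hL hL' eL d
    let M := CohB1.tensorMod L' (TwistOn.O i d)
    have hl : ∀ N ∈ [L, L], PicF.IsInvertible N := List.forall_mem_cons.2 ⟨hL, List.forall_mem_singleton.2 hL⟩
    have h := H28Int.D_twist k hl (H11Ample.isInvertible_tensor hL' (fam.inv d)) hO hOd
    rw [(H28Int.isAddFn_D k _ hl).congr (H10Coh.Tw.rightUnitIso M)] at h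
    change (Curv2.euler k X M - Curv2.euler k X (CohB1.tensorMod L M)) -
      (Curv2.euler k X (CohB1.tensorMod L M) - Curv2.euler k X (CohB1.tensorMod L (CohB1.tensorMod L M))) = _ at h
    let e1 : CohB1.tensorMod L M ≅ TwistOn.O i d :=
      (H10Coh.Tw.assoc L L' _).symm ≪≫ tI eL (Iso.refl _) ≪≫ H10Coh.Tw.leftUnitIso _
    rw [H25Euler.euler_congr e1, H25Euler.euler_congr (tI (Iso.refl L) e1)] at h
    rw [show NefQ.Q k [L, L] O = H28Int.D k [L, L] O by simp [NefQ.Q]]
    show Curv2.euler k X (CohB1.tensorMod L _) + Curv2.euler k X M = _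
    linarith
  -- sections
  have gA : GoodB k i P A := by
    refine goodB_of_seq k i hi hA hG hP.inv a b w hS gG (-Bγ)
      (fun L hL d hd₀ => (hd_congr (eT L d) 0).trans (NumTriv.hd0_eq_zero k (subsingleton_of_forall_eq 0 fun s => ?_)))
      fun d C hC hE => ?_
    · by_contra hs
      have hN : PicF.IsInvertible (Pic13.twistOn k i L d) := H11Ample.isInvertible_tensor (hP.inv L hL) (fam.inv d)
      have h := Q_nonneg_of_section k (TwistOn.isAmple_one i) hN hs (r := 1) hdim.le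
      simp only [List.replicate_one] at h
      rw [← (hGdeg _ hN).2] at h
      change 0 ≤ NefQ.Q k [CohB1.tensorMod L (TwistOn.O i d)] G at h
      rw [NefQ.Q_cons_tensor k (l := []) (by simp) (hP.inv L hL) (fam.inv d) hG hG1, Q_O k i hG hG1] at h
      have hb := hBγ L hL
      have h0 := (abs_nonneg _).trans hb
      have h3 : d * δ ≤ d * 1 := mul_le_mul_of_nonpos_left hδ (by omega)
      have := (abs_le.1 hb).2
      simp only [δ] at h3
      linarith
    · refine ⟨(2 * (C : ℤ) - 2 * Curv2.euler k X (TwistOn.O i d) + Bq).toNat, fun L hL => ?_⟩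
      obtain ⟨L', hL', ⟨e₀⟩⟩ := H11Sym.exists_inverse (hP.inv L hL)
      let eL := H10Coh.Tw.commIso L L' ≪≫ e₀
      have hP' := hP.symm L hL L' hL' ⟨eL⟩
      have h := hsym L L' (hP.inv L hL) hL' eL d
      rw [← H25Euler.euler_congr (eT L d), ← H25Euler.euler_congr (eT L' d)] at h
      have h1 := hE L hL
      have h2 := hE L' hP'
      have h3 := hC L hL
      have h4 := hC L' hP'
      have h5 : -Bq ≤ NefQ.Q k [L, L] O := hBq L hL
      have h6 := Int.self_le_toNat (2 * (C : ℤ) - 2 * Curv2.euler k X (TwistOn.O i d) + Bq)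
      omega
  have gO := gA.congr k i hP eA
  obtain ⟨m, hm⟩ := gO.reg
  have hreg : ∀ L, P L → ∀ p : ℤ, (m : ℤ) ≤ p → Pic13.IsMRegular k i L p := fun L hL p hp => by
    refine NumTriv.regular_mono k i (H11Ample.isCoh_of_isInvertible (hP.inv L hL)) hp fun q hq => ?_
    haveI := hm L hL q hq
    refine NumTriv.subsingleton_of_hd_zero k
      (H11Ample.isCoh_tensor (H11Ample.isCoh_of_isInvertible (hP.inv L hL)) (fam.inv _)) ?_
    exact (hd_congr (tI (H10Coh.Tw.leftUnitIso L).symm (Iso.refl _)) q).trans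
      (Module.finrank_zero_of_subsingleton (R := k)
        (M := Coh.HH X (Pic13.twistOn k i (CohB1.tensorMod O L) ((m : ℤ) - q)) q))
  obtain ⟨C, hC⟩ := gO.h0 (m : ℤ)
  let Be : ℤ := |Curv2.euler k X (TwistOn.O i m)| + C + (m : ℤ) * |Bγ|
  refine bdd_of_euler k i hi hP (κ := ↥(Finset.Icc (-Be) Be ×ˢ Finset.Icc (-|Bγ|) |Bγ|))
    (fun p d => Curv2.euler k X (TwistOn.O i d) - (p.1.1 + d * p.1.2)) m (fun L hL => hreg L hL m le_rfl)
    fun L hL => ?_
  have hLi := hP.inv L hL
  have hLm : Coh.IsCoh (Pic13.twistOn k i L m) :=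
    H11Ample.isCoh_tensor (H11Ample.isCoh_of_isInvertible hLi) (fam.inv _)
  have hvan : ∀ p, 1 ≤ p → Subsingleton (Coh.HH X (Pic13.twistOn k i L m) p) := fun p hp => by
    have h := hreg L hL ((m : ℤ) + p) (by omega) p hp
    rwa [show (m : ℤ) + p - p = m by ring] at h
  have hχm : Curv2.euler k X (Pic13.twistOn k i L m) = hd k (Pic13.twistOn k i L m) 0 := by
    rw [NumTriv.euler_eq_sub k fun p hp => hvan p (by omega)]
    haveI := hvan 1 le_rfl
    simp [hd, Module.finrank_zero_of_subsingleton]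
  have hγ : |H28Int.D k [L] G| ≤ |Bγ| := by
    have h := hBγ L hL
    rw [NefQ.Q, abs_mul] at h
    exact (by simpa using h : |H28Int.D k [L] G| ≤ Bγ).trans (le_abs_self _)
  have hm' : |(m : ℤ) * H28Int.D k [L] G| ≤ (m : ℤ) * |Bγ| := by
    rw [abs_mul, Nat.abs_cast]
    exact mul_le_mul_of_nonneg_left hγ (Nat.cast_nonneg _)
  have h0 : (hd k (Pic13.twistOn k i L m) 0 : ℤ) ≤ C := by
    have h := hC L hL
    rw [hd_congr (show Pic13.twistOn k i (CohB1.tensorMod O L) (m : ℤ) ≅ Pic13.twistOn k i L m from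
      tI (H10Coh.Tw.leftUnitIso L) (Iso.refl _)) 0] at h
    exact_mod_cast h
  have he0 : |e L 0| ≤ Be := by
    have h1 := heχ L m
    rw [hlin L hLi, hχm] at h1
    have h2 := abs_le.1 hm'
    have h3 := le_abs_self (Curv2.euler k X (TwistOn.O i m))
    have h4 := neg_abs_le (Curv2.euler k X (TwistOn.O i m))
    rw [abs_le]
    constructor <;> simp only [Be] <;> linarith [Int.natCast_nonneg (hd k (Pic13.twistOn k i L m) 0)]
  refine ⟨⟨(e L 0, H28Int.D k [L] G), Finset.mem_product.2 ⟨Finset.mem_Icc.2 (abs_le.1 he0),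
    Finset.mem_Icc.2 (abs_le.1 hγ)⟩⟩, fun d => ?_⟩
  rw [heχ, hlin L hLi]

end Groth.Agent.H12Pic.Hodge
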