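import Groth.Agent.H12Pic.Hodge.CurveBound
import Groth.Agent.H12Pic.Hodge.Restriction
import Groth.Agent.H12Pic.Hodge.Surface

/-!
# Classes of bounded degree and square bounded below are finite in number modulo numerical equivalence

Induction on the dimension by cutting with a section of an ample power: the classes on the components are
finite in number, and a class trivial on all of them is trivial by the index theorem.
-/

set_option autoImplicit false
set_option linter.style.haveILetI false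
set_option linter.unusedSectionVars false
universe u

open CategoryTheory CategoryTheory.Limits AlgebraicGeometry TopologicalSpace Opposite
open Groth.Agent.H11Ample Groth.Agent.H22Alg
open Groth.Agent.H8Props.FieldDim (cdim)
open Groth.Agent.H25Theta (pb pT pC pI tI)

noncomputable section

namespace Groth.Agent.H12Pic.Hodge

variable (k : Type u) [Field k] {X : Scheme.{u}} [X.Over (Spec (CommRingCat.of k))]
  [IsProper (X ↘ Spec (CommRingCat.of k))]

/-- An inverse changes the sign of the intersection number. -/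
theorem Q_cons_inv {L L' : X.Modules} (hL : PicF.IsInvertible L) (hL' : PicF.IsInvertible L')
    (e : CohB1.tensorMod L L' ≅ Coh.structureModule X) {l : List X.Modules} (hl : ∀ A ∈ l, PicF.IsInvertible A)
    {F : X.Modules} (hF : Coh.IsCoh F)
    (hd : topologicalKrullDim (CohB1.support F) ≤ ((l.length + 1 : ℕ) : WithBot ℕ∞)) :
    NefQ.Q k (L' :: l) F = - NefQ.Q k (L :: l) F := by
  haveI := H28Int.isNoetherian k (X := X)
  have h := NefQ.Q_cons_tensor k hl hL hL' hF hd
  have h0 : NefQ.Q k (CohB1.tensorMod L L' :: l) F = 0 := by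
    show (-1 : ℤ) ^ _ * (H28Int.D k l F - H28Int.D k l _) = 0
    rw [(H28Int.isAddFn_D k l hl).congr (PicGrp.tensorModIso e (Iso.refl _) ≪≫ H10Coh.Tw.leftUnitIso _),
      sub_self, mul_zero]
  linarith

/-- The square is at most the square of the degree. -/
theorem q_le_sq [IsIntegral X] {d : ℕ} (hd : topologicalKrullDim X = ((d + 2 : ℕ) : WithBot ℕ∞))
    {H L : X.Modules} (hH : CohB1.IsAmple H) (hL : PicF.IsInvertible L) :
    NefQ.Q k (L :: L :: List.replicate d H) (Coh.structureModule X) ≤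
      NefQ.Q k (L :: List.replicate (d + 1) H) (Coh.structureModule X) ^ 2 := by
  haveI := H28Int.isNoetherian k (X := X)
  have hO : Coh.IsCoh (Coh.structureModule X) := H10Coh.isCoh_structureModule' X
  have hdl : ∀ j, j = d + 2 → topologicalKrullDim (CohB1.support (Coh.structureModule X)) ≤ ((j : ℕ) : WithBot ℕ∞) :=
    fun j hj => (Topology.IsInducing.subtypeVal.topologicalKrullDim_le).trans (hj ▸ hd.le)
  have hHl : ∀ j, ∀ A ∈ List.replicate j H, PicF.IsInvertible A := fun j A hA => List.eq_of_mem_replicate hA ▸ hH.1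
  have key : ∀ L : X.Modules, PicF.IsInvertible L → ∀ b : ℕ,
      NefQ.Q k (L :: List.replicate (d + 1) H) (Coh.structureModule X) = -(b : ℤ) →
      NefQ.Q k (L :: L :: List.replicate d H) (Coh.structureModule X) ≤ (b : ℤ) ^ 2 := by
    intro L hL b hb
    set h := NefQ.Q k (List.replicate (d + 2) H) (Coh.structureModule X) with hh
    have hpos : 0 < h := by
      have h' := Nakai.top_pos k hH.1 (Nakai.pos_of_isAmple k hH) (d := d + 2) (by omega) hd
      rw [hh, NefQ.Q, List.length_replicate]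
      exact h'
    obtain ⟨c, hc⟩ := Int.eq_ofNat_of_zero_le hpos.le
    let M := CohB1.tensorMod (CohB1.tensorPow L c) (CohB1.tensorPow H b)
    have hM : PicF.IsInvertible M :=
      H11Ample.isInvertible_tensor (isInvertible_tensorPow hL c) (isInvertible_tensorPow hH.1 b)
    have h1 := NefQ.expand k hL hH.1 c b hO 1 0 (d + 1) (hdl _ (by omega))
    have h2 := NefQ.expand k hL hH.1 c b hO 2 0 d (hdl _ (by omega))
    simp only [Finset.sum_range_succ, Finset.sum_range_zero, NefQ.I, List.replicate_succ, List.replicate_zero,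
      List.nil_append, List.cons_append, Nat.choose_zero_right, Nat.choose_self, Nat.choose_one_right,
      Nat.cast_one, Nat.cast_ofNat, pow_zero, pow_one, one_mul, mul_one, zero_add, Nat.sub_zero, Nat.sub_self,
      Nat.add_zero, show (2 : ℕ) - 1 = 1 from rfl] at h1 h2
    have hb' : NefQ.Q k (L :: H :: List.replicate d H) (Coh.structureModule X) = -(b : ℤ) := hb
    have hh' : NefQ.Q k (H :: H :: List.replicate d H) (Coh.structureModule X) = (c : ℤ) := by
      rw [← hc, hh]; rfl
    change NefQ.Q k (M :: List.replicate (d + 1) H) _ = _ at h1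
    change NefQ.Q k (M :: M :: List.replicate d H) _ = _ at h2
    simp only [hb', hh'] at h1 h2
    have hi := (index d k X hd H M hH hM (by rw [h1]; ring)).1
    rw [h2] at hi
    have hc0 : (0 : ℤ) < c := hc ▸ hpos
    rcases le_total (NefQ.Q k (L :: L :: List.replicate d H) (Coh.structureModule X)) 0 with hn | hn
    · exact hn.trans (sq_nonneg _)
    refine (le_mul_of_one_le_left hn hc0).trans (le_of_mul_le_mul_left ?_ hc0)
    linarith
  rcases Int.eq_nat_or_neg (NefQ.Q k (L :: List.replicate (d + 1) H) (Coh.structureModule X)) with ⟨b, hb | hb⟩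
  · obtain ⟨L', hL', ⟨e₀⟩⟩ := H11Sym.exists_inverse hL
    let e := H10Coh.Tw.commIso L L' ≪≫ e₀
    have h1 := Q_cons_inv k hL hL' e (hHl (d + 1)) hO (hdl _ (by simp))
    have h2 : NefQ.Q k (L' :: L' :: List.replicate d H) (Coh.structureModule X) =
        NefQ.Q k (L :: L :: List.replicate d H) (Coh.structureModule X) := by
      rw [Q_cons_inv k hL hL' e (List.forall_mem_cons.2 ⟨hL', hHl d⟩) hO (hdl _ (by simp)),
        NefQ.Q_perm k (List.Perm.swap L' L _) (List.forall_mem_cons.2 ⟨hL, List.forall_mem_cons.2 ⟨hL', hHl d⟩⟩),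
        Q_cons_inv k hL hL' e (List.forall_mem_cons.2 ⟨hL, hHl d⟩) hO (hdl _ (by simp)), neg_neg]
    rw [hb, ← h2]
    exact key L' hL' b (by rw [h1, hb])
  · rw [hb, neg_sq]
    exact key L hL b hb

/-- Cutting a coherent module by a section of an ample power not vanishing at its top points. -/
theorem exists_cut_coh {F : X.Modules} (hF : Coh.IsCoh F) {H : X.Modules} (hH : CohB1.IsAmple H) {j : ℕ}
    (hd : topologicalKrullDim (CohB1.support F) ≤ ((j + 1 : ℕ) : WithBot ℕ∞)) :
    ∃ (m : ℕ) (K C : X.Modules), 0 < m ∧ Coh.IsCoh K ∧ Coh.IsCoh C ∧ (∃ ι : K ⟶ F, Mono ι) ∧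
      topologicalKrullDim (CohB1.support K) ≤ (j : WithBot ℕ∞) ∧
      topologicalKrullDim (CohB1.support C) ≤ (j : WithBot ℕ∞) ∧
      ∀ l : List X.Modules, (∀ A ∈ l, PicF.IsInvertible A) → l.length = j →
        (m : ℤ) * NefQ.Q k (H :: l) F = NefQ.Q k l C - NefQ.Q k l K := by
  haveI := H28Int.isNoetherian k (X := X)
  haveI : CompactSpace X := hH.2.1
  haveI : QuasiSeparatedSpace X := quasiSeparatedSpace_of_quasiSeparated (X ↘ Spec (CommRingCat.of k))
  obtain ⟨m, g, hm, hT, -, -⟩ := exists_affine_gen_nhd_finite hH (DevLength.finite_points hF hd)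
    (U := ⊤) (fun _ _ => trivial)
  let N := CohB1.tensorPow H m
  have hN : PicF.IsInvertible N := isInvertible_tensorPow hH.1 m
  let μ := H25Euler.mulHom F (H11Tilde.homOfGlobal N g)
  have hB : Coh.IsCoh (CohB1.tensorMod F N) := H11Ample.isCoh_tensor hF hN
  have hK : Coh.IsCoh (kernel μ) := H10Coh.isCoh_kernel μ hF hB.1
  have hC : Coh.IsCoh (cokernel μ) := H10Coh.isCoh_cokernel μ hF.1 hB
  have hI : Coh.IsCoh (Abelian.image μ) := H10Coh.isCoh_kernel (cokernel.π μ) hB hC.1
  have hiso : ∀ x ∈ gen N g, x ∉ CohB1.support (kernel μ) ∧ x ∉ CohB1.support (cokernel μ) := fun x hx =>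
    H25Euler.notMem_support_kernel_cokernel μ (H25Euler.isIso_stalk_mulHom F _ hx)
  have hKs : CohB1.support (kernel μ) ⊆ CohB1.support F := fun x hx =>
    LeadDev.support_subset_of_mono (kernel.ι μ) hx
  have hCs : CohB1.support (cokernel μ) ⊆ CohB1.support F := fun x hx =>
    H25Euler.support_tensor_subset F _ (LeadDev.support_subset_of_epi (cokernel.π μ) hx)
  have hdim : ∀ G : X.Modules, Coh.IsCoh G → CohB1.support G ⊆ CohB1.support F →
      (∀ x ∈ gen N g, x ∉ CohB1.support G) → topologicalKrullDim (CohB1.support G) ≤ (j : WithBot ℕ∞) := by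
    intro G hG hsub hgen
    refine dim_le_of_forall_cdim (H10Coh.isClosed_support G hG.2) ((H28Int.dim_le_of_subset hsub).trans hd)
      fun x hx => ?_
    have h1 : cdim x ≤ ((j + 1 : ℕ) : WithBot ℕ∞) :=
      (H28Int.cdim_le_of_mem (H10Coh.isClosed_support F hF.2) (hsub hx)).trans hd
    by_contra h2
    exact hgen x (hT ⟨hsub hx, NumTriv.eq_succ_dim h1 h2⟩) hx
  refine ⟨m, kernel μ, cokernel μ, hm, hK, hC, ⟨kernel.ι μ, inferInstance⟩, hdim _ hK hKs (fun x hx => (hiso x hx).1),
    hdim _ hC hCs (fun x hx => (hiso x hx).2), fun l hl hlen => ?_⟩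
  have ha := H28Int.isAddFn_D k l hl
  have hS₁ : (ShortComplex.mk (kernel.ι μ) (cokernel.π (kernel.ι μ)) (cokernel.condition _)).ShortExact :=
    ShortComplex.ShortExact.mk' (ShortComplex.exact_cokernel _) inferInstance inferInstance
  have hS₂ : (ShortComplex.mk (kernel.ι (cokernel.π μ)) (cokernel.π μ) (kernel.condition _)).ShortExact :=
    ShortComplex.ShortExact.mk' (ShortComplex.exact_kernel _) inferInstance inferInstance
  have e1 := ha.add _ hS₁ hK hF (H10Coh.isCoh_of_iso (Abelian.coimageIsoImage μ).symm hI)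
  have e2 := ha.add _ hS₂ hI hB hC
  change H28Int.D k l F = H28Int.D k l (kernel μ) + H28Int.D k l (Abelian.coimage μ) at e1
  change H28Int.D k l (CohB1.tensorMod F N) = H28Int.D k l (Abelian.image μ) + H28Int.D k l (cokernel μ) at e2
  rw [ha.congr (Abelian.coimageIsoImage μ)] at e1
  rw [ha.congr (H10Coh.Tw.commIso F N)] at e2
  rw [← NefQ.Q_cons_pow k hl hH.1 hF (by rw [hlen]; exact hd) m]
  show (-1 : ℤ) ^ (l.length + 1) * (H28Int.D k l F - H28Int.D k l (CohB1.tensorMod N F)) =
    (-1 : ℤ) ^ l.length * H28Int.D k l (cokernel μ) - (-1 : ℤ) ^ l.length * H28Int.D k l (kernel μ)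
  rw [e1, e2, pow_succ]
  ring

/-- Bounded degrees in dimension one give bounded degrees against powers of an ample class. -/
theorem deg_bound {P : X.Modules → Prop} (hP : Fam k P) {H : X.Modules} (hH : CohB1.IsAmple H) :
    ∀ (j : ℕ) (F : X.Modules), Coh.IsCoh F →
      topologicalKrullDim (CohB1.support F) ≤ ((j + 1 : ℕ) : WithBot ℕ∞) →
      ∃ B : ℤ, ∀ L, P L → |NefQ.Q k (L :: List.replicate j H) F| ≤ B
  | 0, F, hF, hd => hP.deg F hF hd
  | j + 1, F, hF, hd => by
    obtain ⟨m, K, C, hm, hK, hC, -, hKd, hCd, heq⟩ := exists_cut_coh k hF hH hd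
    obtain ⟨BK, hBK⟩ := deg_bound hP hH j K hK hKd
    obtain ⟨BC, hBC⟩ := deg_bound hP hH j C hC hCd
    refine ⟨BC + BK, fun L hL => ?_⟩
    have hl : ∀ A ∈ L :: List.replicate j H, PicF.IsInvertible A :=
      List.forall_mem_cons.2 ⟨hP.inv L hL, fun A hA => List.eq_of_mem_replicate hA ▸ hH.1⟩
    have h := heq _ hl (by simp)
    rw [NefQ.Q_perm k (List.Perm.swap L H _) (List.forall_mem_cons.2 ⟨hH.1, hl⟩)] at h
    calc |NefQ.Q k (L :: List.replicate (j + 1) H) F|
        ≤ (m : ℤ) * |NefQ.Q k (L :: List.replicate (j + 1) H) F| :=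
          le_mul_of_one_le_left (abs_nonneg _) (by exact_mod_cast hm)
      _ = |NefQ.Q k (L :: List.replicate j H) C - NefQ.Q k (L :: List.replicate j H) K| := by
          rw [← h, abs_mul, Nat.abs_cast]; rfl
      _ ≤ BC + BK := (abs_sub _ _).trans (add_le_add (hBC L hL) (hBK L hL))

/-- The classes with `|(L·H^{d+1})| ≤ B` and `(L²·H^d) ≥ -B`. -/
def Pset (d : ℕ) (H : X.Modules) (B : ℤ) (L : X.Modules) : Prop :=
  PicF.IsInvertible L ∧ |NefQ.Q k (L :: List.replicate (d + 1) H) (Coh.structureModule X)| ≤ B ∧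
    -B ≤ NefQ.Q k (L :: L :: List.replicate d H) (Coh.structureModule X)

theorem fam_pset [IsIntegral X] {d : ℕ} (hd : topologicalKrullDim X = ((d + 2 : ℕ) : WithBot ℕ∞))
    {H : X.Modules} (hH : CohB1.IsAmple H) (B : ℤ) : Fam k (Pset k d H B) := by
  haveI := H28Int.isNoetherian k (X := X)
  have hO : Coh.IsCoh (Coh.structureModule X) := H10Coh.isCoh_structureModule' X
  have hdl : ∀ j, j = d + 2 → topologicalKrullDim (CohB1.support (Coh.structureModule X)) ≤ ((j : ℕ) : WithBot ℕ∞) :=
    fun j hj => (Topology.IsInducing.subtypeVal.topologicalKrullDim_le).trans (hj ▸ hd.le)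
  have hHl : ∀ j, ∀ A ∈ List.replicate j H, PicF.IsInvertible A := fun j A hA => List.eq_of_mem_replicate hA ▸ hH.1
  refine ⟨fun L hL => hL.1, fun L ⟨hL, ha, hq⟩ L' hL' ⟨e⟩ => ⟨hL', ?_, ?_⟩, fun F hF hFd => ?_⟩
  · rw [Q_cons_inv k hL hL' e (hHl (d + 1)) hO (hdl _ (by simp)), abs_neg]
    exact ha
  · rw [Q_cons_inv k hL hL' e (List.forall_mem_cons.2 ⟨hL', hHl d⟩) hO (hdl _ (by simp)),
      NefQ.Q_perm k (List.Perm.swap L' L _) (List.forall_mem_cons.2 ⟨hL, List.forall_mem_cons.2 ⟨hL', hHl d⟩⟩),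
      Q_cons_inv k hL hL' e (List.forall_mem_cons.2 ⟨hL, hHl d⟩) hO (hdl _ (by simp)), neg_neg]
    exact hq
  · obtain ⟨B', hB'⟩ := curve_bound d k X hd H hH B F hF hFd
    exact ⟨B', fun L hL => hB' L hL.1 hL.2.1 hL.2.2⟩

/-- Finitely many classes modulo numerical equivalence. -/
def FinNT (P : X.Modules → Prop) : Prop :=
  ∃ (q : ℕ) (M : Fin q → X.Modules), (∀ j, P (M j)) ∧ ∀ L, P L → ∃ j, ∀ A : X.Modules, PicF.IsInvertible A →
    Nonempty (CohB1.tensorMod (M j) A ≅ Coh.structureModule X) → NumTriv.NT k (CohB1.tensorMod L A)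

variable [IsAlgClosed k]

theorem finNT_of_bdd {P : X.Modules → Prop} (hP : ∀ L, P L → PicF.IsInvertible L) (h : Bdd.Bdd k X P) :
    FinNT k P := by
  obtain ⟨q, M, hM, hrep⟩ := Bdd.exists_reps_bounded k P id h.isBounded fun L hL => ⟨hL, hP L hL⟩
  refine ⟨q, M, hM, fun L hL => ?_⟩
  obtain ⟨j, hj⟩ := hrep L hL
  exact ⟨j, fun A hA he => Bdd.nt_of_algEquiv k (H11Ample.isInvertible_tensor (hP L hL) hA) (hj A hA he)⟩

theorem bdd_of_finNT {P : X.Modules → Prop} (hP : ∀ L, P L → PicF.IsInvertible L) (h : FinNT k P) :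
    Bdd.Bdd k X P := by
  haveI := H28Int.isNoetherian k (X := X)
  obtain ⟨q, M, hM, hrep⟩ := h
  refine (Bdd.Bdd.iUnion fun j : Fin q => ((Bdd.bdd_of_isBounded (Bdd.isBounded_nt_proper k X)).tensor
    (H11Ample.isCoh_of_isInvertible (hP _ (hM j))))).subset fun L hL => ?_
  obtain ⟨j, hj⟩ := hrep L hL
  obtain ⟨A, hA, ⟨e⟩⟩ := Bdd.exists_right_inverse (hP _ (hM j))
  exact ⟨j, CohB1.tensorMod L A, hj A hA ⟨e⟩, ⟨H10Coh.Tw.commIso _ _ ≪≫ (Bdd.cancelInv e L).symm⟩⟩

/-- Equality modulo numerical equivalence is transitive. -/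
theorem nt_trans {X₁ X₂ C A : X.Modules} (h₁ : PicF.IsInvertible X₁) (h₂ : PicF.IsInvertible X₂)
    (hC : PicF.IsInvertible C) (hA : PicF.IsInvertible A) (n₁ : NumTriv.NT k (CohB1.tensorMod X₁ C))
    (n₂ : NumTriv.NT k (CohB1.tensorMod X₂ C)) (e : CohB1.tensorMod X₂ A ≅ Coh.structureModule X) :
    NumTriv.NT k (CohB1.tensorMod X₁ A) := by
  haveI := H28Int.isNoetherian k (X := X)
  refine ⟨H11Ample.isInvertible_tensor h₁ hA, (NumTriv.num_iff_Q k (H11Ample.isInvertible_tensor h₁ hA)).2
    fun Z i _ _ hd => ?_⟩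
  have hF : Coh.IsCoh (ClSub.quotMod i.ker) := LeadDev.isCoh_push_structure _
  have hFd := NefBC.support_quotMod_ker_le k i hd
  have add : ∀ {U V : X.Modules}, PicF.IsInvertible U → PicF.IsInvertible V →
      NefQ.Q k [CohB1.tensorMod U V] (ClSub.quotMod i.ker) =
        NefQ.Q k [U] (ClSub.quotMod i.ker) + NefQ.Q k [V] (ClSub.quotMod i.ker) :=
    fun hU hV => NefQ.Q_cons_tensor k (l := []) (by simp) hU hV hF hFd
  have a := n₁.Q_eq k i hd
  have b := n₂.Q_eq k i hd
  have c := NumTriv.Q_inverse k h₂ hA e hF hFd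
  rw [add h₁ hC] at a
  rw [add h₂ hC] at b
  rw [add h₁ hA]
  linarith

theorem finNT_classes : ∀ (d : ℕ) (X : Scheme.{u}) [X.Over (Spec (CommRingCat.of k))]
    [IsProper (X ↘ Spec (CommRingCat.of k))] [IsIntegral X],
    topologicalKrullDim X = ((d + 2 : ℕ) : WithBot ℕ∞) → ∀ (H : X.Modules), CohB1.IsAmple H → ∀ B : ℤ,
      FinNT k (Pset k d H B)
  | 0, X, _, _, _, hd, H, hH, B => by
    obtain ⟨n, i, hi, hι⟩ := H22Alg.CurveProj.exists_closedImmersion k X hH
    haveI := hi
    exact finNT_of_bdd k (fun L hL => hL.1) (bdd_surface k i hι hd (fam_pset k hd hH B) ⟨B, fun L hL => hL.2.2⟩)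
  | d + 1, X, _, _, _, hd, H, hH, B => by
    classical
    haveI := H28Int.isNoetherian k (X := X)
    let sk := Spec (CommRingCat.of k)
    have hHl : ∀ j, ∀ A ∈ List.replicate j H, PicF.IsInvertible A := fun j A hA => List.eq_of_mem_replicate hA ▸ hH.1
    let A₀ := (Coh.push (𝟙 X)).obj (Coh.structureModule X)
    let eA : A₀ ≅ Coh.structureModule X := H28Int.Surface.pushIdIso
    have hA₀ : Coh.IsCoh A₀ := LeadDev.isCoh_push_structure (𝟙 X)
    obtain ⟨m, K, C, hm, hK, hC, ⟨ι, hι⟩, hKd, hCd, heq⟩ := exists_cut_coh k hA₀ hH (j := d + 2)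
      ((Topology.IsInducing.subtypeVal.topologicalKrullDim_le).trans hd.le)
    haveI := hι
    have hK0 : IsZero K := H28Int.isZero_of_mono_push (𝟙 X) ι fun hmem => by
      have h := (H28Int.cdim_le_of_mem (H10Coh.isClosed_support K hK.2) hmem).trans hKd
      rw [show cdim ((𝟙 X : X ⟶ X) (genericPoint X)) = ((d + 1 + 2 : ℕ) : WithBot ℕ∞) from
        (VarDim.cdim_genericPoint X).trans hd] at h
      exact absurd h (not_le.2 (WithBot.coe_lt_coe.2 (ENat.natCast_lt_natCast.2 (by omega))))
    let T := (DevLength.finite_points hC hCd).toFinset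
    have hT : ∀ z, z ∈ T ↔ z ∈ CohB1.support C ∧ cdim z = ((d + 2 : ℕ) : WithBot ℕ∞) :=
      fun z => Set.Finite.mem_toFinset _
    let c : X → ℤ := fun z => ((DevLength.len C z).toNat : ℤ)
    have hc : ∀ z ∈ T, 0 < c z := fun z hz => by
      obtain ⟨hzs, hzd⟩ := (hT z).1 hz
      have h1 := DevLength.len_ne_top hC hC subset_rfl hCd (ξ := z) hzd
      have h2 : DevLength.len C z ≠ 0 := fun h => hzs (Module.length_eq_zero_iff.1 h)
      exact Int.natCast_pos.2 (Nat.pos_of_ne_zero fun h => (ENat.toNat_eq_zero.1 h).elim h2 h1)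
    have hsum : ∀ l : List X.Modules, (∀ A ∈ l, PicF.IsInvertible A) → l.length = d + 2 →
        (m : ℤ) * NefQ.Q k (H :: l) (Coh.structureModule X) =
          ∑ z ∈ T, c z * NefQ.Q k l (H25K.redMod (DevLength.cl z)) := by
      intro l hl hlen
      have h := heq l hl hlen
      have hK' : NefQ.Q k l K = 0 := by rw [NefQ.Q, (H28Int.isAddFn_D k l hl).zero hK0, mul_zero]
      have hA' : NefQ.Q k (H :: l) A₀ = NefQ.Q k (H :: l) (Coh.structureModule X) := by
        rw [NefQ.Q, NefQ.Q, (H28Int.isAddFn_D k (H :: l) (List.forall_mem_cons.2 ⟨hH.1, hl⟩)).congr eA]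
      rw [hK', hA', sub_zero] at h
      rw [h, NefQ.Q, DevLength.eq_finsum (H28Int.isAddFn_D k l hl) (d := d + 2)
        (fun G hG hG' => H28Int.D_eq_zero k l hl G hG (by rw [hlen]; exact hG')) hC hCd,
        finsum_eq_sum_of_support_subset _ (s := T) fun z hz => ?_, Finset.mul_sum]
      · refine Finset.sum_congr rfl fun z hz => ?_
        rw [if_pos (show topologicalKrullDim (closure ({z} : Set X)) = _ from ((hT z).1 hz).2), NefQ.Q]
        ring
      · rw [Function.mem_support] at hz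
        by_cases hzd : topologicalKrullDim (closure ({z} : Set X)) = ((d + 2 : ℕ) : WithBot ℕ∞)
        · rw [if_pos hzd] at hz
          refine (hT z).2 ⟨?_, hzd⟩
          by_contra hn
          rw [DevLength.len_eq_zero hn] at hz
          simp at hz
        · rw [if_neg hzd] at hz
          exact absurd rfl hz
    -- the components
    let J := fun z : X => Scheme.IdealSheafData.vanishingIdeal (DevLength.cl z)
    haveI hJi : ∀ z, IsIntegral (J z).subscheme := fun z => isIntegral_vanishingIdeal_closure z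
    letI hJo : ∀ z, (J z).subscheme.Over sk := fun z => ⟨(J z).subschemeι ≫ (X ↘ sk)⟩
    haveI hJp : ∀ z, IsProper ((J z).subscheme ↘ sk) := fun z =>
      inferInstanceAs (IsProper ((J z).subschemeι ≫ (X ↘ sk)))
    let R := fun z => (Scheme.Modules.pullback (J z).subschemeι).obj
    have hres : ∀ z ∈ T, ∀ l : List X.Modules, (∀ A ∈ l, PicF.IsInvertible A) → l.length = d + 2 →
        NefQ.Q k (l.map (R z)) (Coh.structureModule (J z).subscheme) = NefQ.Q k l (H25K.redMod (DevLength.cl z)) := by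
      intro z hz l hl hlen
      have hzd : topologicalKrullDim (J z).subscheme = (l.length : WithBot ℕ∞) := by
        rw [NakaiPos.dim_subscheme, Scheme.IdealSheafData.coe_support_vanishingIdeal, hlen]
        exact ((hT z).1 hz).2
      rw [NefQ.Q_quotMod_ker k (J z).subschemeι rfl hl hzd, (J z).ker_subschemeι]
      rfl
    have hred : ∀ z ∈ T, topologicalKrullDim (CohB1.support (H25K.redMod (DevLength.cl z))) ≤
        ((d + 1 + 1 : ℕ) : WithBot ℕ∞) := fun z hz =>
      (H28Int.dim_le_of_subset (H25K.support_redMod_subset _)).trans ((hT z).1 hz).2.le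
    have hdeg : ∀ z ∈ T, ∃ B₁ : ℤ, ∀ L, Pset k (d + 1) H B L →
        |NefQ.Q k (L :: List.replicate (d + 1) H) (H25K.redMod (DevLength.cl z))| ≤ B₁ := fun z hz =>
      deg_bound k (fam_pset k hd hH B) hH (d + 1) _ (H25K.isCoh_redMod _) (hred z hz)
    choose! B₁ hB₁ using hdeg
    let S : ℤ := (m : ℤ) * |B| + ∑ z ∈ T, c z * B₁ z ^ 2
    have hl1 : ∀ L, PicF.IsInvertible L → ∀ j, ∀ A ∈ L :: List.replicate j H, PicF.IsInvertible A :=
      fun L hL j => List.forall_mem_cons.2 ⟨hL, hHl j⟩
    have hl2 : ∀ L, PicF.IsInvertible L → ∀ j, ∀ A ∈ L :: L :: List.replicate j H, PicF.IsInvertible A :=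
      fun L hL j => List.forall_mem_cons.2 ⟨hL, hl1 L hL j⟩
    have hWd : ∀ z ∈ T, topologicalKrullDim (J z).subscheme = ((d + 2 : ℕ) : WithBot ℕ∞) := fun z hz => by
      rw [NakaiPos.dim_subscheme, Scheme.IdealSheafData.coe_support_vanishingIdeal]
      exact ((hT z).1 hz).2
    have hHW : ∀ z, CohB1.IsAmple (R z H) := fun z => isAmple_pullback_of_isAffineHom _ hH
    have hPW : ∀ z ∈ T, ∀ L, Pset k (d + 1) H B L → Pset k d (R z H) (|B₁ z| + S) (R z L) := by
      intro z hz L hL
      have hLW : PicF.IsInvertible (R z L) := isInvertible_pullback _ hL.1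
      have hq : ∀ w ∈ T, NefQ.Q k (L :: L :: List.replicate d H) (H25K.redMod (DevLength.cl w)) ≤ B₁ w ^ 2 := by
        intro w hw
        have h := q_le_sq k (hWd w hw) (hHW w) (isInvertible_pullback (J w).subschemeι hL.1)
        have e1 := hres w hw _ (hl1 L hL.1 (d + 1)) (by simp)
        have e2 := hres w hw _ (hl2 L hL.1 d) (by simp)
        simp only [List.map_cons, List.map_replicate] at e1 e2
        change NefQ.Q k (R w L :: R w L :: List.replicate d (R w H)) _ ≤ _ at h
        rw [e2, e1] at h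
        exact h.trans (sq_le_sq.2 ((hB₁ w hw L hL).trans (le_abs_self _)))
      have hS0 : 0 ≤ S := add_nonneg (mul_nonneg (Nat.cast_nonneg _) (abs_nonneg B))
        (Finset.sum_nonneg fun w hw => mul_nonneg (hc w hw).le (sq_nonneg _))
      refine ⟨hLW, ?_, ?_⟩
      · have e1 := hres z hz _ (hl1 L hL.1 (d + 1)) (by simp)
        simp only [List.map_cons, List.map_replicate] at e1
        rw [e1]
        exact ((hB₁ z hz L hL).trans (le_abs_self _)).trans (le_add_of_nonneg_right hS0)
      · have e2 := hres z hz _ (hl2 L hL.1 d) (by simp)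
        simp only [List.map_cons, List.map_replicate] at e2
        rw [e2]
        have h := hsum _ (hl2 L hL.1 d) (by simp)
        rw [NefQ.Q_perm k ((List.Perm.swap L H _).trans ((List.Perm.swap L H _).cons L))
          (List.forall_mem_cons.2 ⟨hH.1, hl2 L hL.1 d⟩), ← Finset.add_sum_erase T _ hz] at h
        have hrest : ∑ w ∈ T.erase z, c w * NefQ.Q k (L :: L :: List.replicate d H) (H25K.redMod (DevLength.cl w)) ≤
            ∑ w ∈ T, c w * B₁ w ^ 2 :=
          (Finset.sum_le_sum fun w hw => mul_le_mul_of_nonneg_left (hq w (Finset.mem_of_mem_erase hw))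
              (hc w (Finset.mem_of_mem_erase hw)).le).trans
            (Finset.sum_le_sum_of_subset_of_nonneg (Finset.erase_subset _ _)
              fun w hw _ => mul_nonneg (hc w hw).le (sq_nonneg _))
        have hqX : -((m : ℤ) * |B|) ≤ (m : ℤ) * NefQ.Q k (L :: L :: List.replicate (d + 1) H) (Coh.structureModule X) := by
          rw [← mul_neg]
          exact mul_le_mul_of_nonneg_left ((neg_le_neg (le_abs_self B)).trans hL.2.2) (Nat.cast_nonneg _)
        change (m : ℤ) * NefQ.Q k (L :: L :: List.replicate (d + 1) H) _ = _ at h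
        rcases le_total 0 (NefQ.Q k (L :: L :: List.replicate d H) (H25K.redMod (DevLength.cl z))) with hq0 | hq0
        · linarith [abs_nonneg (B₁ z)]
        · have h1 := mul_le_mul_of_nonpos_right (show (1 : ℤ) ≤ c z from hc z hz) hq0
          rw [one_mul] at h1
          simp only [S] at hS0 ⊢
          linarith [abs_nonneg (B₁ z)]
    have ih : ∀ z : T, FinNT k (Pset k d (R z.1 H) (|B₁ z.1| + S)) := fun z =>
      finNT_classes d (J z.1).subscheme (hWd z.1 z.2) _ (hHW z.1) _
    choose q Mz hMz hrep using ih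
    choose σ hσ using fun (L : {L : X.Modules // Pset k (d + 1) H B L}) (z : T) =>
      hrep z (R z.1 L.1) (hPW z.1 z.2 L.1 L.2)
    let κ := {s : ∀ z : T, Fin (q z) // ∃ L, σ L = s}
    obtain ⟨N, ⟨eN⟩⟩ := Finite.exists_equiv_fin κ
    choose rep hrep' using fun s : κ => s.2
    refine ⟨N, fun j => (rep (eN.symm j)).1, fun j => (rep (eN.symm j)).2, fun L hL => ?_⟩
    let s : κ := ⟨σ ⟨L, hL⟩, ⟨L, hL⟩, rfl⟩
    refine ⟨eN s, fun A hA ⟨eMA⟩ => ?_⟩
    replace eMA : CohB1.tensorMod (rep s).1 A ≅ Coh.structureModule X := eN.symm_apply_apply s ▸ eMA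
    have hM := (rep s).2
    have hDi := H11Ample.isInvertible_tensor hL.1 hA
    let D := CohB1.tensorMod L A
    have hnt : ∀ z ∈ T, NumTriv.NT k (R z D) := by
      intro z hz
      obtain ⟨C', hC', ⟨eC⟩⟩ := Bdd.exists_right_inverse (hMz ⟨z, hz⟩ (σ ⟨L, hL⟩ ⟨z, hz⟩)).1
      have n1 := hσ ⟨L, hL⟩ ⟨z, hz⟩ C' hC' ⟨eC⟩
      have n2 := hσ (rep s) ⟨z, hz⟩ C' hC' (by rw [hrep' s]; exact ⟨eC⟩)
      exact (nt_trans k (isInvertible_pullback _ hL.1) (isInvertible_pullback _ hM.1) hC'
        (isInvertible_pullback (J z).subschemeι hA) n1 n2 ((pT _ _ _).symm ≪≫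
          (Scheme.Modules.pullback (J z).subschemeι).mapIso eMA ≪≫
            H16Derived.KFlat.Stalk.structurePullbackIso _)).congr k (pT (J z).subschemeι L A).symm
    have hkill : ∀ l : List X.Modules, (∀ A ∈ l, PicF.IsInvertible A) → l.length = d + 1 →
        NefQ.Q k (H :: D :: l) (Coh.structureModule X) = 0 := by
      intro l hl hlen
      have h := hsum (D :: l) (List.forall_mem_cons.2 ⟨hDi, hl⟩) (by rw [List.length_cons, hlen])
      rw [Finset.sum_eq_zero fun z hz => ?_] at h
      · exact (mul_eq_zero.1 h).resolve_left (by exact_mod_cast hm.ne')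
      rw [← hres z hz (D :: l) (List.forall_mem_cons.2 ⟨hDi, hl⟩) (by rw [List.length_cons, hlen]), List.map_cons,
        Q_cons_nt k (hnt z hz) (fun M hM => by
          obtain ⟨M₀, hM₀, rfl⟩ := List.mem_map.1 hM
          exact isInvertible_pullback _ (hl M₀ hM₀)) (H10Coh.isCoh_structureModule' _), mul_zero]
    have h0 : NefQ.Q k (D :: List.replicate (d + 2) H) (Coh.structureModule X) = 0 := by
      rw [← hkill _ (hHl (d + 1)) List.length_replicate]
      exact NefQ.Q_perm k (List.Perm.swap H D _) (hl1 D hDi (d + 2)) _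
    have h1 : NefQ.Q k (D :: D :: List.replicate (d + 1) H) (Coh.structureModule X) = 0 := by
      rw [← hkill (D :: List.replicate d H) (hl1 D hDi d) (by rw [List.length_cons, List.length_replicate])]
      exact NefQ.Q_perm k (((List.Perm.swap H D _).cons D).trans (List.Perm.swap H D _)) (hl2 D hDi (d + 1)) _
    exact ⟨hDi, (NumTriv.num_iff_Q k hDi).2 ((index (d + 1) k X hd H D hH hDi h0).2 h1.ge)⟩

/-- Bounded degree and square bounded below: a bounded set. -/
theorem bdd_pset [IsIntegral X] {d : ℕ} (hd : topologicalKrullDim X = ((d + 2 : ℕ) : WithBot ℕ∞))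
    {H : X.Modules} (hH : CohB1.IsAmple H) (B : ℤ) : Bdd.Bdd k X (Pset k d H B) :=
  bdd_of_finNT k (fun _ h => h.1) (finNT_classes k d X hd H hH B)

end Groth.Agent.H12Pic.Hodge
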