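import Groth.Agent.H06Red.Fields
import Mathlib.RingTheory.Localization.FractionRing
import Mathlib.RingTheory.AlgebraicIndependent.Basic

/-!
# A generic member of a pencil of functions: the algebra
-/

set_option autoImplicit false
set_option linter.style.haveILetI false
set_option linter.unusedSectionVars false
universe u

open scoped TensorProduct
open Polynomial

noncomputable section

namespace Groth.Agent.H12Pic.Hodge

variable (k : Type u) [Field k]

/-- The field of rational functions in one variable. -/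
abbrev KT : Type u := FractionRing k[X]

/-- The variable. -/
def tK : KT k := algebraMap k[X] (KT k) X

theorem aeval_tK (p : k[X]) : aeval (tK k) p = algebraMap k[X] (KT k) p := by
  have h : aeval (tK k) = IsScalarTower.toAlgHom k k[X] (KT k) := by
    refine Polynomial.algHom_ext ?_
    simp [tK]
  rw [h]
  rfl

theorem transcendental_tK : Transcendental k (tK k) := by
  rintro ⟨p, hp, h⟩
  rw [aeval_tK] at h
  exact hp ((map_eq_zero_iff _ (IsFractionRing.injective k[X] (KT k))).1 h)

/-- A domain stays a domain after the purely transcendental extension. -/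
theorem isDomain_tensor (A : Type u) [CommRing A] [Algebra k A] [IsDomain A] :
    IsDomain (A ⊗[k] KT k) := by
  let F := FractionRing A
  have htop : IntermediateField.adjoin k (Set.range fun _ : PUnit.{u+1} => tK k) = ⊤ := by
    refine eq_top_iff.2 fun x _ => ?_
    obtain ⟨a, b, -, rfl⟩ := IsFractionRing.div_surjective k[X] x
    rw [← aeval_tK, ← aeval_tK]
    have ht : tK k ∈ IntermediateField.adjoin k (Set.range fun _ : PUnit.{u+1} => tK k) :=
      IntermediateField.subset_adjoin k _ ⟨PUnit.unit, rfl⟩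
    have hmem : ∀ p : k[X], aeval (tK k) p ∈ IntermediateField.adjoin k (Set.range fun _ : PUnit.{u+1} => tK k) :=
      fun p => by
        have h := ((⟨tK k, ht⟩ : IntermediateField.adjoin k (Set.range fun _ : PUnit.{u+1} => tK k)))
        exact (Polynomial.aeval_subalgebra_coe p (IntermediateField.adjoin k _).toSubalgebra ⟨tK k, ht⟩) ▸
          (aeval (⟨tK k, ht⟩ : (IntermediateField.adjoin k (Set.range fun _ : PUnit.{u+1} => tK k)).toSubalgebra) p).2
    exact div_mem (hmem a) (hmem b)
  haveI : IsDomain (KT k ⊗[k] F) := H06Red.isDomain_tensor_purelyTranscendental F (KT k) (fun _ : PUnit.{u+1} => tK k)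
    (algebraicIndependent_unique_type_iff.2 (transcendental_tK k)) htop
  haveI : IsDomain (F ⊗[k] KT k) := (Algebra.TensorProduct.comm k F (KT k)).toMulEquiv.isDomain _
  have hinj : Function.Injective (Algebra.TensorProduct.map (IsScalarTower.toAlgHom k A F) (AlgHom.id k (KT k))) :=
    Module.Flat.rTensor_preserves_injective_linearMap (M := KT k) (IsScalarTower.toAlgHom k A F).toLinearMap
      (IsFractionRing.injective A F)
  exact hinj.isDomain (Algebra.TensorProduct.map (IsScalarTower.toAlgHom k A F) (AlgHom.id k (KT k))).toRingHom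

/-- The zero locus of a function translated by the variable is irreducible or empty. -/
theorem isPrime_span_pencil {A : Type u} [CommRing A] [Algebra k A] [IsDomain A] (f : A) :
    (Ideal.span {f ⊗ₜ[k] (1 : KT k) + (1 : A) ⊗ₜ[k] tK k}).IsPrime ∨
      Ideal.span {f ⊗ₜ[k] (1 : KT k) + (1 : A) ⊗ₜ[k] tK k} = ⊤ := by
  set c : A ⊗[k] KT k := f ⊗ₜ 1 + 1 ⊗ₜ tK k
  set J := Ideal.span {c}
  let ev : k[X] →ₐ[k] A := aeval (-f)
  let M : Submonoid A := Submonoid.map ev.toRingHom.toMonoidHom (nonZeroDivisors k[X])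
  let L := Localization M
  let gA : A →ₐ[k] L := IsScalarTower.toAlgHom k A L
  have hu : ∀ y : nonZeroDivisors k[X], IsUnit ((gA.comp ev) y) := fun y =>
    IsLocalization.map_units L (⟨ev y.1, ⟨y.1, y.2, rfl⟩⟩ : M)
  let gK : KT k →ₐ[k] L := IsLocalization.liftAlgHom (M := nonZeroDivisors k[X]) (f := gA.comp ev) hu
  let Φ : A ⊗[k] KT k →ₐ[k] L := Algebra.TensorProduct.lift gA gK fun _ _ => mul_comm _ _
  have hgt : gK (tK k) = - gA f := by
    show gK (algebraMap k[X] (KT k) X) = _
    rw [IsLocalization.liftAlgHom_apply, IsLocalization.lift_eq]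
    show gA (ev X) = _
    rw [aeval_X, map_neg]
  have hle : J ≤ RingHom.ker Φ := (Ideal.span_singleton_le_iff_mem _).2 (RingHom.mem_ker.2 (by
    simp [Φ, c, hgt]
    exact add_neg_cancel _))
  let mk : A ⊗[k] KT k →ₐ[k] (A ⊗[k] KT k) ⧸ J := Ideal.Quotient.mkₐ k J
  let hA : A →ₐ[k] (A ⊗[k] KT k) ⧸ J := mk.comp Algebra.TensorProduct.includeLeft
  let hK : KT k →ₐ[k] (A ⊗[k] KT k) ⧸ J := mk.comp Algebra.TensorProduct.includeRight
  have hev : hA.comp ev = hK.comp (IsScalarTower.toAlgHom k k[X] (KT k)) := by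
    refine Polynomial.algHom_ext ?_
    show mk (ev X ⊗ₜ 1) = mk (1 ⊗ₜ tK k)
    rw [aeval_X]
    refine (Ideal.Quotient.eq).2 ?_
    have h : (-f) ⊗ₜ[k] (1 : KT k) - (1 : A) ⊗ₜ tK k = -c := by
      rw [TensorProduct.neg_tmul]; simp [c]; ring
    rw [h]
    exact neg_mem (Ideal.mem_span_singleton_self c)
  have hu' : ∀ y : M, IsUnit (hA y) := by
    rintro ⟨_, y, hy, rfl⟩
    show IsUnit ((hA.comp ev) y)
    rw [hev]
    exact ((IsLocalization.map_units (KT k) (⟨y, hy⟩ : nonZeroDivisors k[X])).map hK)
  let Ψ : L →ₐ[k] (A ⊗[k] KT k) ⧸ J := IsLocalization.liftAlgHom (A := k) (R := A) (M := M) (S := L) (P := (A ⊗[k] KT k) ⧸ J) (f := hA) hu'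
  have hA' : Ψ.comp gA = hA := AlgHom.ext fun a => by
    show Ψ (algebraMap A L a) = _
    rw [IsLocalization.liftAlgHom_apply, IsLocalization.lift_eq]
    rfl
  have hK' : Ψ.comp gK = hK := by
    refine IsLocalization.algHom_ext (nonZeroDivisors k[X]) ?_
    refine AlgHom.ext fun p => ?_
    show Ψ (gK (algebraMap k[X] (KT k) p)) = hK (algebraMap k[X] (KT k) p)
    have hgKa : gK (algebraMap k[X] (KT k) p) = gA (ev p) := by
      rw [IsLocalization.liftAlgHom_apply, IsLocalization.lift_eq]
      rfl
    rw [hgKa]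
    show (Ψ.comp gA) (ev p) = (hK.comp (IsScalarTower.toAlgHom k k[X] (KT k))) p
    rw [hA', ← hev]
    rfl
  have hcomp : Ψ.comp Φ = mk := by
    refine Algebra.TensorProduct.ext (AlgHom.ext fun a => ?_) (AlgHom.ext fun c => ?_)
    · simpa [Φ, hA] using congrArg (fun g => g a) hA'
    · simpa [Φ, hK] using congrArg (fun g => g c) hK'
  have heq : RingHom.ker Φ = J := le_antisymm (fun z hz => by
    rw [← Ideal.Quotient.eq_zero_iff_mem]
    show mk z = 0
    rw [← hcomp]
    show Ψ (Φ z) = 0
    rw [RingHom.mem_ker.1 hz, map_zero]) hle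
  by_cases h0 : (0 : A) ∈ M
  · right
    haveI : Subsingleton L := (IsLocalization.subsingleton_iff (M := M) (S := L)).2 h0
    rw [← heq]
    exact eq_top_iff.2 fun z _ => RingHom.mem_ker.2 (Subsingleton.elim _ _)
  · left
    haveI : IsDomain L := IsLocalization.isDomain_localization (le_nonZeroDivisors_of_noZeroDivisors h0)
    rw [← heq]
    exact RingHom.ker_isPrime Φ

end Groth.Agent.H12Pic.Hodge
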