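import Groth.Agent.H12Pic.Hodge.Alg
import Groth.Agent.H11Ample.Pullback
import Groth.Agent.H11Cone.DirectImageNormal
import Groth.Agent.H12Pic.NefBC

/-!
# A generic member of a pencil of sections, over the rational function field
-/

set_option autoImplicit false
set_option linter.style.haveILetI false
set_option linter.unusedSectionVars false
universe u

open CategoryTheory CategoryTheory.Limits AlgebraicGeometry TopologicalSpace Opposite
open Groth.Agent.H11Ample Groth.Agent.H11Tilde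
open scoped TensorProduct

noncomputable section

namespace Groth.Agent.H12Pic.Hodge

variable (k : Type u) [Field k] (X : Scheme.{u}) [X.Over (Spec (CommRingCat.of k))]
  [IsProper (X ↘ Spec (CommRingCat.of k))]

/-- The base of the generic member. -/
abbrev baseT : Spec (CommRingCat.of (KT k)) ⟶ Spec (CommRingCat.of k) :=
  Spec.map (CommRingCat.ofHom (algebraMap k (KT k)))

/-- The scheme over the rational function field. -/
abbrev XK : Scheme.{u} := pullback (X ↘ Spec (CommRingCat.of k)) (baseT k)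

instance overXK : (XK k X).Over (Spec (CommRingCat.of (KT k))) := ⟨pullback.snd _ _⟩

instance isProperXK : IsProper (XK k X ↘ Spec (CommRingCat.of (KT k))) :=
  inferInstanceAs (IsProper (pullback.snd _ _))

/-- The projection. -/
abbrev qK : XK k X ⟶ X := pullback.fst _ _

theorem sq : IsPullback (qK k X) (XK k X ↘ Spec (CommRingCat.of (KT k))) (X ↘ Spec (CommRingCat.of k)) (baseT k) :=
  IsPullback.of_hasPullback _ _

/-- The variable, as a function. -/
def tG : Γ(XK k X, ⊤) :=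
  (pullback.snd (X ↘ Spec (CommRingCat.of k)) (baseT k)).appTop ((Scheme.ΓSpecIso (CommRingCat.of (KT k))).inv (tK k))

/-- The affine chart. -/
theorem exists_chart {U : X.Opens} (hU : IsAffineOpen U) :
    ∃ (_ : Algebra k Γ(X, U)) (j : Spec (CommRingCat.of (Γ(X, U) ⊗[k] KT k)) ⟶ XK k X),
      IsOpenImmersion j ∧ Set.range j = (qK k X ⁻¹ᵁ U : Set (XK k X)) ∧
      ∀ f : Γ(X, U), j ⁻¹ᵁ (XK k X).basicOpen ((qK k X).app U f +
        (XK k X).presheaf.map (homOfLE (le_top : qK k X ⁻¹ᵁ U ≤ ⊤)).op (tG k X)) =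
        PrimeSpectrum.basicOpen (f ⊗ₜ[k] (1 : KT k) + (1 : Γ(X, U)) ⊗ₜ[k] tK k) := by
  obtain ⟨α, hα⟩ : ∃ α : CommRingCat.of k ⟶ Γ(X, U), Spec.map α = hU.fromSpec ≫ (X ↘ Spec (CommRingCat.of k)) :=
    ⟨_, Spec.map_preimage _⟩
  letI := α.hom.toAlgebra
  refine ⟨inferInstance, ?_⟩
  let R := Γ(X, U) ⊗[k] KT k
  let sA : Spec Γ(X, U) ⟶ Spec (CommRingCat.of k) := Spec.map (CommRingCat.ofHom (algebraMap k Γ(X, U)))
  have e₁ : sA ≫ 𝟙 _ = hU.fromSpec ≫ (X ↘ Spec (CommRingCat.of k)) := by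
    rw [Category.comp_id]; exact hα
  let μ := pullback.map sA (baseT k) (X ↘ Spec (CommRingCat.of k)) (baseT k) hU.fromSpec (𝟙 _) (𝟙 _) e₁ (by simp)
  let j : Spec (CommRingCat.of R) ⟶ XK k X := (pullbackSpecIso k Γ(X, U) (KT k)).inv ≫ μ
  haveI : IsOpenImmersion μ := inferInstance
  refine ⟨j, inferInstance, ?_, fun f => ?_⟩
  · show Set.range j = _
    rw [show (j : _ → _) = μ ∘ (pullbackSpecIso k Γ(X, U) (KT k)).inv by ext x; rfl,
      Set.range_comp, Set.range_eq_univ.2 ((pullbackSpecIso k Γ(X, U) (KT k)).inv.surjective), Set.image_univ,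
      Scheme.Pullback.range_map, hU.range_fromSpec]
    rw [Set.range_eq_univ.2 (fun y => ⟨y, rfl⟩ : Function.Surjective (𝟙 (Spec (CommRingCat.of (KT k))) : _ ⟶ _)),
      Set.preimage_univ, Set.inter_univ]
    rfl
  have hjq : j ≫ qK k X = Spec.map (CommRingCat.ofHom (Algebra.TensorProduct.includeLeftRingHom :
      Γ(X, U) →+* R)) ≫ hU.fromSpec := by
    simp only [j, μ, qK, pullback.map, Category.assoc, pullback.lift_fst]
    exact (pullbackSpecIso_inv_fst_assoc k Γ(X, U) (KT k) hU.fromSpec)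
  have hjs : j ≫ pullback.snd (X ↘ Spec (CommRingCat.of k)) (baseT k) = Spec.map (CommRingCat.ofHom
      ((Algebra.TensorProduct.includeRight : KT k →ₐ[k] R).toRingHom)) := by
    simp only [j, μ, pullback.map, Category.assoc, pullback.lift_snd, Category.comp_id]
    exact pullbackSpecIso_inv_snd k Γ(X, U) (KT k)
  have htop : (⊤ : (Spec (CommRingCat.of R)).Opens) ≤ j ⁻¹ᵁ (qK k X ⁻¹ᵁ U) := by
    intro x _
    show (j ≫ qK k X) x ∈ U
    rw [hjq]
    exact hU.opensRange_fromSpec.le ⟨_, rfl⟩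
  let ρ := j.appLE (qK k X ⁻¹ᵁ U) ⊤ htop
  have hq : (qK k X).app U ≫ ρ = CommRingCat.ofHom (Algebra.TensorProduct.includeLeftRingHom :
      Γ(X, U) →+* R) ≫ (Scheme.ΓSpecIso (CommRingCat.of R)).inv := by
    simp only [ρ]
    rw [Scheme.Hom.app_eq_appLE, Scheme.Hom.appLE_comp_appLE]
    have h0 : ∀ {g g' : Spec (CommRingCat.of R) ⟶ X}, g = g' → ∀ (h : ⊤ ≤ g ⁻¹ᵁ U) (h' : ⊤ ≤ g' ⁻¹ᵁ U),
        g.appLE U ⊤ h = g'.appLE U ⊤ h' := by rintro g g' rfl h h'; rfl
    rw [h0 hjq _ (by intro x _; exact hU.opensRange_fromSpec.le ⟨_, rfl⟩)]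
    rw [← Scheme.Hom.appLE_comp_appLE _ _ U (hU.fromSpec ⁻¹ᵁ U) ⊤ le_rfl (fun x _ => hU.opensRange_fromSpec.le ⟨_, rfl⟩),
      Scheme.Hom.appLE_eq_app, hU.fromSpec_app_self, Category.assoc, Scheme.Hom.map_appLE,
      Scheme.ΓSpecIso_inv_naturality]
    congr 1
  have ht : (XK k X).presheaf.map (homOfLE (le_top : qK k X ⁻¹ᵁ U ≤ ⊤)).op ≫ ρ =
      j.appTop := by
    simp [ρ, Scheme.Hom.appTop, Scheme.Hom.app_eq_appLE]
  rw [Scheme.preimage_basicOpen]
  have hres : (Spec (CommRingCat.of R)).basicOpen (ρ ((qK k X).app U f +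
      (XK k X).presheaf.map (homOfLE (le_top : qK k X ⁻¹ᵁ U ≤ ⊤)).op (tG k X))) =
      (Spec (CommRingCat.of R)).basicOpen (j.app (qK k X ⁻¹ᵁ U) ((qK k X).app U f +
        (XK k X).presheaf.map (homOfLE (le_top : qK k X ⁻¹ᵁ U ≤ ⊤)).op (tG k X))) := by
    show (Spec (CommRingCat.of R)).basicOpen ((Spec (CommRingCat.of R)).presheaf.map (homOfLE htop).op _) = _
    rw [Scheme.basicOpen_res, top_inf_eq]
    rfl
  rw [← hres, map_add]
  have h1 := congrArg (fun g => g f) hq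
  have h2 := congrArg (fun g => g (tG k X)) ht
  simp only [CommRingCat.comp_apply] at h1 h2
  have h3 : j.appTop (tG k X) = (Scheme.ΓSpecIso (CommRingCat.of R)).inv ((1 : Γ(X, U)) ⊗ₜ[k] tK k) := by
    show (j.appTop ((pullback.snd (X ↘ Spec (CommRingCat.of k)) (baseT k)).appTop _)) = _
    rw [← CommRingCat.comp_apply (f := (pullback.snd (X ↘ Spec (CommRingCat.of k)) (baseT k)).appTop),
      ← Scheme.Hom.comp_appTop, hjs, ← CommRingCat.comp_apply, ← Scheme.ΓSpecIso_inv_naturality]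
    rfl
  rw [h1, h2, h3, ← map_add]
  exact basicOpen_eq_of_affine _

theorem isDomain_chart [IsIntegral X] {U : X.Opens} (hU : IsAffineOpen U) (hne : (U : Set X).Nonempty) :
    IsDomain Γ(XK k X, qK k X ⁻¹ᵁ U) := by
  obtain ⟨hA, j, hj, hr, -⟩ := exists_chart k X hU
  haveI := hj
  haveI : Nonempty U := hne.to_subtype
  haveI := isDomain_tensor k Γ(X, U)
  haveI := Scheme.Hom.isIso_app j (qK k X ⁻¹ᵁ U) (fun z hz => hr.ge hz)
  have htop : j ⁻¹ᵁ (qK k X ⁻¹ᵁ U) = ⊤ := eq_top_iff.2 fun x _ => hr.le ⟨x, rfl⟩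
  let e : Γ(XK k X, qK k X ⁻¹ᵁ U) ≅ CommRingCat.of (Γ(X, U) ⊗[k] KT k) :=
    asIso (j.app (qK k X ⁻¹ᵁ U)) ≪≫ (Spec _).presheaf.mapIso (eqToIso htop.symm).op ≪≫ Scheme.ΓSpecIso _
  exact e.commRingCatIsoToRingEquiv.toMulEquiv.isDomain _

instance isIntegralXK [IsIntegral X] : IsIntegral (XK k X) := by
  haveI : IsAffineHom (qK k X) :=
    MorphismProperty.of_isPullback (sq k X).flip (inferInstanceAs (IsAffineHom (baseT k)))
  refine H11Cone.isIntegral_of_domains (qK k X) (fun U U' hU hU' => ?_)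
    fun y => ⟨⊤, trivial, fun U hU _ hne => isDomain_chart k X hU hne⟩
  exact nonempty_preirreducible_inter U.2 U'.2 hU hU'

theorem tensor_ne_zero {A : Type u} [CommRing A] [Algebra k A] [Nontrivial A] (f : A) :
    f ⊗ₜ[k] (1 : KT k) + (1 : A) ⊗ₜ[k] tK k ≠ 0 := by
  intro h
  obtain ⟨φ, hφ⟩ := LinearMap.exists_leftInverse_of_injective (Algebra.linearMap k A)
    (LinearMap.ker_eq_bot.2 (algebraMap k A).injective)
  have h1 : φ 1 = 1 := by simpa using congrArg (fun g => g (1 : k)) hφ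
  let Ψ : A ⊗[k] KT k →ₗ[k] KT k := (TensorProduct.lid k (KT k)).toLinearMap ∘ₗ LinearMap.rTensor (KT k) φ
  have h2 := congrArg Ψ h
  simp [Ψ, h1] at h2
  refine transcendental_tK k ⟨Polynomial.X + Polynomial.C (φ f), Polynomial.X_add_C_ne_zero _, ?_⟩
  rw [map_add, Polynomial.aeval_X, Polynomial.aeval_C, Algebra.algebraMap_eq_smul_one, add_comm]
  exact h2

/-- The zero locus of a generic member in an affine chart is irreducible and not everything. -/
theorem chart_zero [IsIntegral X] {U : X.Opens} (hU : IsAffineOpen U) (hne : (U : Set X).Nonempty) (f : Γ(X, U)) :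
    let c := (qK k X).app U f + (XK k X).presheaf.map (homOfLE (le_top : qK k X ⁻¹ᵁ U ≤ ⊤)).op (tG k X)
    IsPreirreducible ((qK k X ⁻¹ᵁ U : Set (XK k X)) \ ((XK k X).basicOpen c : Set (XK k X))) ∧
      ((XK k X).basicOpen c : Set (XK k X)).Nonempty := by
  intro c
  obtain ⟨hA, j, hj, hr, hb⟩ := exists_chart k X hU
  haveI := hj
  haveI : Nonempty U := hne.to_subtype
  haveI := isDomain_tensor k Γ(X, U)
  have hj0 : ∀ x, j x ∈ (XK k X).basicOpen c ↔ x ∈ PrimeSpectrum.basicOpen (f ⊗ₜ[k] (1 : KT k) + (1 : Γ(X, U)) ⊗ₜ[k] tK k) :=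
    fun x => by rw [← hb f]; rfl
  constructor
  · have heq : ((qK k X ⁻¹ᵁ U : Set (XK k X)) \ ((XK k X).basicOpen c : Set (XK k X))) =
        j '' PrimeSpectrum.zeroLocus
          (Ideal.span {f ⊗ₜ[k] (1 : KT k) + (1 : Γ(X, U)) ⊗ₜ[k] tK k} : Set (Γ(X, U) ⊗[k] KT k)) := by
      ext z
      constructor
      · rintro ⟨hz, hz'⟩
        obtain ⟨x, rfl⟩ : z ∈ Set.range j := hr.ge hz
        refine ⟨x, ?_, rfl⟩
        rw [PrimeSpectrum.zeroLocus_span]
        intro a ha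
        rw [Set.mem_singleton_iff.1 ha]
        by_contra hn
        exact hz' ((hj0 x).2 hn)
      · rintro ⟨x, hx, rfl⟩
        refine ⟨hr.le ⟨x, rfl⟩, fun h => (hj0 x).1 h ?_⟩
        exact hx (Ideal.mem_span_singleton_self _)
    rw [heq]
    refine IsPreirreducible.image ?_ _ j.continuous.continuousOn
    rcases isPrime_span_pencil k f with h | h
    · exact ((PrimeSpectrum.isIrreducible_zeroLocus_iff_of_radical _ h.isRadical).2 h).2
    · rw [h, Submodule.top_coe, PrimeSpectrum.zeroLocus_univ]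
      exact isPreirreducible_empty
  · exact ⟨j ⟨⊥, Ideal.isPrime_bot⟩, (hj0 _).2 fun h => tensor_ne_zero k f ((Submodule.mem_bot _).1 h)⟩

end Groth.Agent.H12Pic.Hodge
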