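import Groth.Agent.H12Pic.Hodge.Index

/-!
# Bounded degree and self-intersection bound the degrees on a fixed curve

For an integral scheme of dimension `d + 2` with an ample `H`, the classes with `(L·H^{d+1})` bounded and
`(L²·H^d)` bounded below have bounded degree on every coherent module with support of dimension `≤ 1`.
-/

set_option autoImplicit false
set_option linter.style.haveILetI false
set_option linter.unusedSectionVars false
set_option backward.isDefEq.respectTransparency.types false
universe u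

open CategoryTheory CategoryTheory.Limits AlgebraicGeometry TopologicalSpace Opposite
open Groth.Agent.H28Surf
open Groth.Agent.H22Alg
open Groth.Agent.H11Ample
open Groth.Agent.H8Props.FieldDim (cdim)

noncomputable section

namespace Groth.Agent.H12Pic.Hodge

open Groth.Agent.H28RR

section surface

variable {X : Scheme.{u}} (k : Type u) [Field k] [X.Over (Spec (CommRingCat.of k))]
  [IsProper (X ↘ Spec (CommRingCat.of k))] [IsIntegral X]

include k

/-- The Hodge inequality for two classes with respect to a class of positive square. -/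
theorem two_abs_pr_le (hdim : topologicalKrullDim X = 2) {H G L F : X.Modules} (hH : CohB1.IsAmple H)
    (hG : PicF.IsInvertible G) (hL : PicF.IsInvertible L) (hF : PicF.IsInvertible F) (hpos : 0 < pr k G G) :
    2 * |pr k L F| ≤ 2 * |pr k L G * pr k F G| + pr k L G ^ 2 + max 0 (- pr k L L) + pr k F G ^ 2 + |pr k F F| := by
  set s := pr k G G with hs
  set a := pr k L G with ha
  set b := pr k F G with hb
  obtain ⟨L₀, hL₀, hL₀c⟩ := HodgeIndex.exists_comb k hdim s (-a) hL hG
  obtain ⟨F₀, hF₀, hF₀c⟩ := HodgeIndex.exists_comb k hdim s (-b) hF hG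
  have key : ∀ e : ℤ, e * e = 1 →
      s * s * pr k L L - a * a * s + (s * s * pr k F F - b * b * s) + 2 * e * (s * s * pr k L F - a * b * s) ≤ 0 := by
    intro e he
    obtain ⟨N, hN, hNc⟩ := HodgeIndex.exists_comb k hdim 1 e hL₀ hF₀
    have hGN : pr k G N = 0 := by
      rw [pr_symm k, hNc G hG, hL₀c G hG, hF₀c G hG, ← hs, ← ha, ← hb]
      ring
    have h := HodgeIndex.pr_self_nonpos_of_orth k hdim hH hG hN hpos hGN
    rw [hNc N hN, pr_symm k L₀ N, pr_symm k F₀ N, hNc L₀ hL₀, hNc F₀ hF₀, hL₀c L₀ hL₀, hF₀c L₀ hL₀, hL₀c F₀ hF₀,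
      hF₀c F₀ hF₀, pr_symm k L L₀, pr_symm k G L₀, pr_symm k F L₀, pr_symm k L F₀, pr_symm k G F₀, pr_symm k F F₀,
      hL₀c L hL, hL₀c G hG, hL₀c F hF, hF₀c L hL, hF₀c G hG, hF₀c F hF, pr_symm k G L, pr_symm k G F, pr_symm k F L,
      ← hs, ← ha, ← hb] at h
    have e' : e * e * (s * s * pr k F F - b * b * s) = s * s * pr k F F - b * b * s := by rw [he, one_mul]
    linarith
  have h1 := key 1 rfl
  have h2 := key (-1) rfl
  have hss : 0 < s * s := mul_pos hpos hpos
  have hm1 := le_max_left 0 (- pr k L L)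
  have hm2 := le_max_right 0 (- pr k L L)
  have hab := mul_le_mul_of_nonneg_left (le_abs_self (a * b)) hpos.le
  have hab' := mul_le_mul_of_nonneg_left (neg_abs_le (a * b)) hpos.le
  have hFF := mul_le_mul_of_nonneg_left (neg_abs_le (pr k F F)) hss.le
  have hLL := mul_le_mul_of_nonneg_left hm2 hss.le
  have hsle : s ≤ s * s := le_mul_of_one_le_left hpos.le hpos
  have ha2 := mul_le_mul_of_nonneg_right hsle (mul_self_nonneg a)
  have hb2 := mul_le_mul_of_nonneg_right hsle (mul_self_nonneg b)
  have hc := mul_le_mul_of_nonneg_right hsle (abs_nonneg (a * b))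
  refine le_of_mul_le_mul_left ?_ hss
  rcases le_total 0 (pr k L F) with h | h
  · rw [abs_of_nonneg h]
    nlinarith
  · rw [abs_of_nonpos h]
    nlinarith

/-- On an integral surface the degree on a curve is bounded by the degree and the square. -/
theorem surface_curve_bound (hdim : topologicalKrullDim X = 2) {P : X.Modules} (hP : PicF.IsInvertible P)
    (hpos : 0 < pr k P P) {Y : Scheme.{u}} (ι : Y ⟶ X) [IsClosedImmersion ι] [IsIntegral Y]
    (hY : topologicalKrullDim Y = 1) (B : ℤ) : ∃ B' : ℤ, ∀ L : X.Modules, PicF.IsInvertible L →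
      |pr k L P| ≤ B → -B ≤ pr k L L → |H28Int.D k [L] (ClSub.quotMod ι.ker)| ≤ B' := by
  classical
  let sk := Spec (CommRingCat.of k)
  haveI := H28Int.isNoetherian k (X := X)
  set η := genericPoint X
  have hηd : cdim η = ((2 : ℕ) : WithBot ℕ∞) := by
    rw [H22Alg.VarDim.cdim_genericPoint X, hdim]; rfl
  let y := ι (genericPoint Y)
  have hyd : cdim y = ((1 : ℕ) : WithBot ℕ∞) := by
    show topologicalKrullDim (closure ({y} : Set X)) = _
    rw [← LeadDev.range_eq_closure ι (ξ := y) rfl,
      ← ι.isClosedEmbedding.isEmbedding.toHomeomorph.isHomeomorph.topologicalKrullDim_eq, hY]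
    rfl
  let I := Scheme.IdealSheafData.vanishingIdeal (DevLength.cl y)
  have hyne : y ≠ η := fun h => by
    rw [h, hηd] at hyd
    exact absurd hyd (by norm_num)
  have hIsupp : (I.support : Set X) = closure {y} := Scheme.IdealSheafData.coe_support_vanishingIdeal _
  have hgenI : η ∉ (I.support : Set X) := fun h => by
    rw [hIsupp] at h
    exact hyne ((specializes_iff_mem_closure.2 h).antisymm (genericPoint_specializes y)).eq
  have hI : I ≠ ⊥ := fun h => hgenI (by rw [h, Scheme.IdealSheafData.support_bot]; trivial)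
  obtain ⟨Z, b, hb⟩ := H26Blow.exists_isBlowUp I
  haveI : IsProper b := H26Blow.isProper_of_isBlowUp hb fun x => by
    obtain ⟨U, hU, hxU, -⟩ := exists_isAffineOpen_mem_and_subset (U := (⊤ : X.Opens)) (x := x) trivial
    haveI : IsNoetherianRing Γ(X, U) := IsLocallyNoetherian.component_noetherian ⟨U, hU⟩
    exact ⟨⟨U, hU⟩, hxU, IsNoetherian.noetherian _⟩
  obtain ⟨hZint, hbgen, hbbij⟩ := S2348.result I hI b hb
  haveI := hZint
  letI : Z.Over sk := ⟨b ≫ (X ↘ sk)⟩
  haveI : IsProper (Z ↘ sk) := inferInstanceAs (IsProper (b ≫ (X ↘ sk)))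
  haveI := H28Int.isNoetherian k (X := Z)
  obtain ⟨W, hW, ρ, A, hρ, hA, hρgen, hρdeg, hWd⟩ := H22Alg.IntPullback.exists_birational_ample k (𝟙 Z)
  haveI := hW
  haveI := hρ
  have hZd : topologicalKrullDim Z = ((2 : ℕ) : WithBot ℕ∞) := by
    rw [← H22Alg.VarDim.cdim_genericPoint Z, HodgeProper.cdim_eq_of_residue (X ↘ sk) (Z ↘ sk) b rfl _ hbbij, hbgen]
    exact hηd
  letI : W.Over sk := ⟨ρ ≫ (Z ↘ sk)⟩
  haveI : IsProper (W ↘ sk) := inferInstanceAs (IsProper (ρ ≫ (Z ↘ sk)))
  haveI := H28Int.isNoetherian k (X := W)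
  let f := ρ ≫ b
  have hfk : f ≫ (X ↘ sk) = W ↘ sk := by
    show (ρ ≫ b) ≫ (X ↘ sk) = ρ ≫ b ≫ (X ↘ sk)
    rw [Category.assoc]
  have hWdim : topologicalKrullDim W = 2 := by rw [hWd, hZd]; rfl
  have hfgen : f (genericPoint W) = η := by rw [Scheme.Hom.comp_apply, hρgen]; exact hbgen
  have hbdeg : b.residueDegree (genericPoint Z) = 1 := by
    letI := (b.residueFieldMap (genericPoint Z)).hom.toAlgebra
    exact ((AlgEquiv.ofBijective (Algebra.ofId (X.residueField (b (genericPoint Z)))
      (Z.residueField (genericPoint Z))) hbbij).toLinearEquiv.finrank_eq.symm.trans (Module.finrank_self _))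
  have hfdeg : f.residueDegree (genericPoint W) = 1 := by
    rw [H22Alg.CycBasic.residueDegree_comp, hρgen, hbdeg, hρdeg]
  let pb := Scheme.Modules.pullback f
  have hD : ∀ B C : X.Modules, PicF.IsInvertible B → PicF.IsInvertible C →
      pr k (pb.obj B) (pb.obj C) = H28Int.D k [B, C] (H25K.redMod (DevLength.cl η)) := fun B C hB hC => by
    have h := H22Alg.IntPush.D_pullback k f hfk hA [B, C] (by simp [hB, hC]) (by rw [hWdim]; rfl)
    rw [hfdeg, Nat.cast_one, one_mul, hfgen] at h
    exact h
  set m := (DevLength.len (Coh.structureModule X) η).toNat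
  have hm : 0 < (m : ℤ) := by
    rcases Nat.eq_zero_or_pos m with h | h
    · rw [HodgeProper.pr_eq_mul_red k hdim hP hP] at hpos
      change 0 < (m : ℤ) * _ at hpos
      rw [h, Nat.cast_zero, zero_mul] at hpos
      exact absurd hpos (lt_irrefl _)
    · exact_mod_cast h
  rw [HodgeProper.pr_eq_mul_red k hdim hP hP] at hpos
  have hPi := H11Ample.isInvertible_pullback f hP
  have hPP : 0 < pr k (pb.obj P) (pb.obj P) := by rw [hD P P hP hP]; exact pos_of_mul_pos_right hpos hm.le
  -- the exceptional divisor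
  let F := I.comap f
  have hF : BlowUp.IsEffCartierIdeal F := by
    show BlowUp.IsEffCartierIdeal (I.comap (ρ ≫ b))
    rw [Scheme.IdealSheafData.comap_comp]
    refine S8862.result ρ (I.comap b) hb.1 fun ξ hξ => ?_
    rw [← hξ _ (genericPoint_specializes ξ), hρgen]
    intro h
    rw [Scheme.IdealSheafData.support_comap] at h
    refine hgenI ?_
    show genericPoint X ∈ (I.support : Set X)
    rw [← hbgen]
    exact h
  have hFi := H29Blow.isInvertible_of_isEffCartierIdeal F hF
  have hFsupp : (F.support : Set W) = f ⁻¹' closure {y} := by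
    rw [Scheme.IdealSheafData.support_comap]
    show f ⁻¹' (I.support : Set X) = _
    rw [hIsupp]
  have hQ : Coh.IsCoh (ClSub.quotMod F) := LeadDev.isCoh_push_structure F.subschemeι
  have hQs : CohB1.support (ClSub.quotMod F) ⊆ (F.support : Set W) := fun x hx => by
    by_contra h
    exact LeadDev.notMem_support_push F.subschemeι _ (by rwa [F.range_subschemeι]) hx
  have hQd : topologicalKrullDim (CohB1.support (ClSub.quotMod F)) ≤ ((1 : ℕ) : WithBot ℕ∞) := by
    have hlt := H28Int.dim_lt_of_notMem (C := Set.univ) (genericPoint_spec W) (n := 2)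
      (Topology.IsInducing.subtypeVal.topologicalKrullDim_le.trans hWdim.le) F.support.2 (fun _ _ => trivial)
      (by
        show genericPoint W ∉ (F.support : Set W)
        rw [hFsupp, Set.mem_preimage, hfgen, ← hIsupp]
        exact hgenI)
    refine (H28Int.dim_le_of_subset hQs).trans ?_
    rcases hd : topologicalKrullDim (F.support : Set W) with _ | n
    · exact bot_le
    · exact WithBot.coe_le_coe.2
        ((ENat.lt_natCast_add_one_iff (n := 1)).1 (WithBot.coe_lt_coe.1 (lt_of_eq_of_lt hd.symm hlt)))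
  let T := (H22Alg.DevLength.finite_points hQ hQd).toFinset
  have hT : ∀ z, z ∈ T ↔ z ∈ CohB1.support (ClSub.quotMod F) ∧
      topologicalKrullDim (closure ({z} : Set W)) = ((1 : ℕ) : WithBot ℕ∞) := fun z => Set.Finite.mem_toFinset _
  let c : W → ℤ := fun z =>
    if f z = y then ((DevLength.len (ClSub.quotMod F) z).toNat : ℤ) * (f.residueDegree z : ℤ) else 0
  have hquot : H25K.redMod (DevLength.cl y) = ClSub.quotMod ι.ker := (H22Alg.IntPullback.quotMod_ker ι).symm
  have hsum : ∀ L : X.Modules, PicF.IsInvertible L →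
      H28Int.D k [pb.obj L] (ClSub.quotMod F) = (∑ z ∈ T, c z) * H28Int.D k [L] (ClSub.quotMod ι.ker) := by
    intro L hL
    have hLl : ∀ M ∈ [L], PicF.IsInvertible M := List.forall_mem_singleton.2 hL
    have hlW : ∀ M ∈ [pb.obj L], PicF.IsInvertible M :=
      List.forall_mem_singleton.2 (H11Ample.isInvertible_pullback f hL)
    have hterm : ∀ z ∈ T, ((DevLength.len (ClSub.quotMod F) z).toNat : ℤ) *
        H28Int.D k [pb.obj L] (H25K.redMod (DevLength.cl z)) = c z * H28Int.D k [L] (ClSub.quotMod ι.ker) := by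
      intro z hz
      obtain ⟨hzs, hzd⟩ := (hT z).1 hz
      let V := Scheme.IdealSheafData.vanishingIdeal (DevLength.cl z)
      haveI : IsIntegral V.subscheme := H22Alg.isIntegral_vanishingIdeal_closure z
      have hVd : topologicalKrullDim V.subscheme = ((1 : ℕ) : WithBot ℕ∞) := by
        rw [H22Alg.NakaiPos.dim_subscheme, Scheme.IdealSheafData.coe_support_vanishingIdeal]; exact hzd
      have hVg : V.subschemeι (genericPoint V.subscheme) = z := HodgeProper.subschemeι_genericPoint z
      have e := H22Alg.IntPullback.D_pullback_subscheme k V.subschemeι f hfk [L] hLl hVd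
      rw [H22Alg.IntPullback.quotMod_ker V.subschemeι, H22Alg.CycBasic.residueDegree_comp,
        H22Alg.IntPullback.residueDegree_of_surjective V.subschemeι _ (V.subschemeι.stalkMap_surjective _), mul_one,
        H22Alg.IntPullback.quotMod_ker (V.subschemeι ≫ f), Scheme.Hom.comp_apply, hVg] at e
      change H28Int.D k [pb.obj L] _ = _ at e
      rw [e]
      by_cases hzy : f z = y
      · simp only [c, if_pos hzy, hzy, hquot]
        ring
      · have hmem : f z ∈ closure ({y} : Set X) := hFsupp.le (hQs hzs)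
        have hlt := H22Alg.DevLength.dim_closure_lt (specializes_iff_mem_closure.2 hmem) hzy (d := 1) hyd.le
        have hz0 : H28Int.D k [L] (H25K.redMod (DevLength.cl (f z))) = 0 :=
          H28Int.D_eq_zero k [L] hLl _ (H25K.isCoh_redMod _)
            ((H28Int.dim_le_of_subset (H25K.support_redMod_subset _)).trans_lt hlt)
        simp only [c, if_neg hzy, hz0]
        ring
    rw [H22Alg.DevLength.eq_finsum (H28Int.isAddFn_D k _ hlW) (d := 1)
      (fun G hG h => H28Int.D_eq_zero k _ hlW G hG h) hQ hQd, Finset.sum_mul,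
      finsum_eq_sum_of_support_subset _ (s := T) fun z hz => ?_]
    · exact Finset.sum_congr rfl fun z hz => by rw [if_pos ((hT z).1 hz).2]; exact hterm z hz
    · rw [Function.mem_support] at hz
      by_cases hd : topologicalKrullDim (closure ({z} : Set W)) = ((1 : ℕ) : WithBot ℕ∞)
      · rw [if_pos hd] at hz
        refine (hT z).2 ⟨?_, hd⟩
        by_contra hn
        rw [H22Alg.DevLength.len_eq_zero hn] at hz
        simp at hz
      · rw [if_neg hd] at hz
        exact absurd rfl hz
  -- some component dominates the curve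
  haveI : LocallyOfFiniteType f := by
    haveI : LocallyOfFiniteType (f ≫ (X ↘ sk)) := by rw [hfk]; infer_instance
    exact locallyOfFiniteType_of_comp f (X ↘ sk)
  have hne : Nonempty (f.fiber y) := by
    haveI : IsProper f := inferInstanceAs (IsProper (ρ ≫ b))
    obtain ⟨w, hw⟩ : y ∈ Set.range f :=
      f.isClosedMap.isClosed_range.closure_subset_iff.2 (Set.singleton_subset_iff.2 ⟨_, hfgen⟩)
        (genericPoint_specializes y).mem_closure
    obtain ⟨v, -⟩ : w ∈ Set.range (f.fiberι y) := by
      rw [f.range_fiberι y, Set.mem_preimage, hw]; rfl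
    exact ⟨v⟩
  haveI := hne
  haveI : LocallyOfFiniteType (f.fiberToSpecResidueField y) := H8Props.FieldDim.locallyOfFiniteType_fiberToSpec f y
  haveI : JacobsonSpace ↥(f.fiber y) := LocallyOfFiniteType.jacobsonSpace (f.fiberToSpecResidueField y)
  obtain ⟨v, -, hv⟩ := nonempty_inter_closedPoints (X := ↥(f.fiber y)) (Z := Set.univ) Set.univ_nonempty
    isClosed_univ.isLocallyClosed
  let w := f.fiberι y v
  have hw : f w = y := (f.range_fiberι y).subset (Set.mem_range_self v)
  have hcl : IsClosed ({f.asFiber w} : Set ↥(f.fiber (f w))) := by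
    have : ∀ (y₀ : X) (h₀ : f w = y₀) (v' : ↥(f.fiber y₀)), IsClosed ({v'} : Set ↥(f.fiber y₀)) →
        f.fiberι y₀ v' = w → IsClosed ({f.asFiber w} : Set ↥(f.fiber (f w))) := by
      rintro y₀ rfl v' hv' hvw
      rwa [show f.asFiber w = v' from (f.fiberι _).isEmbedding.injective ((f.fiberι_asFiber w).trans hvw.symm)]
    exact this y hw v hv rfl
  have hwdeg : 0 < f.residueDegree w := by
    letI : Algebra (X.residueField (f w)) (W.residueField w) := (f.residueFieldMap w).hom.toAlgebra
    haveI : Module.Finite (X.residueField (f w)) (W.residueField w) := H17.finite_residueFieldMap f w hcl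
    exact Module.finrank_pos
  have hwd : cdim w = ((1 : ℕ) : WithBot ℕ∞) := by
    rw [H8Props.FieldDim.cdim_eq_add (W ↘ sk) (X ↘ sk) f hfk w, H28Int.Curves.cdim_closed hcl, hw, hyd,
      Nat.cast_zero, zero_add]
  have hwF : w ∈ (F.support : Set W) := by
    rw [hFsupp, Set.mem_preimage, hw]
    exact subset_closure rfl
  have hws : w ∈ CohB1.support (ClSub.quotMod F) := by
    obtain ⟨u, hu⟩ : w ∈ Set.range F.subschemeι := by rw [F.range_subschemeι]; exact hwF
    exact hu ▸ H28Int.Curves.mem_support_push_structure F.subschemeι u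
  have hwlen : 0 < (DevLength.len (ClSub.quotMod F) w).toNat := by
    have h1 := H22Alg.DevLength.len_ne_top hQ hQ subset_rfl hQd (ξ := w) hwd
    have h2 : DevLength.len (ClSub.quotMod F) w ≠ 0 := fun h => hws (Module.length_eq_zero_iff.1 h)
    exact Nat.pos_of_ne_zero fun h => (ENat.toNat_eq_zero.1 h).elim h2 h1
  have hcpos : 0 < ∑ z ∈ T, c z := by
    refine Finset.sum_pos' (fun z _ => ?_) ⟨w, (hT w).2 ⟨hws, hwd⟩, ?_⟩
    · simp only [c]; split_ifs <;> positivity
    · simp only [c, if_pos hw]; positivity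
  -- the bound
  set FI := ClSub.idealMod F
  refine ⟨2 * |B * pr k FI (pb.obj P)| + B ^ 2 + |B| + pr k FI (pb.obj P) ^ 2 + |pr k FI FI|,
    fun L hL hLP hLL => ?_⟩
  have hLi := H11Ample.isInvertible_pullback f hL
  have h0 : H28Int.D k [pb.obj L] (ClSub.quotMod F) = pr k (pb.obj L) FI := by
    rw [← intNum_idealMod k hWdim.le F hFi hLi, intNum_eq_pr k hWdim hFi hLi, pr_symm k]
  have hbd := two_abs_pr_le k hWdim hA hPi hLi hFi hPP
  rw [HodgeProper.pr_eq_mul_red k hdim hL hP, ← hD L P hL hP] at hLP
  rw [HodgeProper.pr_eq_mul_red k hdim hL hL, ← hD L L hL hL] at hLL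
  have hB : 0 ≤ B := (abs_nonneg _).trans hLP
  have hLP' : |pr k (pb.obj L) (pb.obj P)| ≤ B := by
    refine le_trans ?_ hLP
    rw [abs_mul]
    exact le_mul_of_one_le_left (abs_nonneg _) (le_abs.2 (Or.inl hm))
  have hLL' : max 0 (- pr k (pb.obj L) (pb.obj L)) ≤ |B| := by
    refine max_le (abs_nonneg B) ?_
    rcases le_total 0 (pr k (pb.obj L) (pb.obj L)) with h | h
    · exact (neg_nonpos.2 h).trans (abs_nonneg B)
    · have := mul_le_mul_of_nonpos_right (show (1 : ℤ) ≤ m from hm) h
      have := le_abs_self B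
      linarith
  have hmul : |pr k (pb.obj L) (pb.obj P) * pr k FI (pb.obj P)| ≤ |B * pr k FI (pb.obj P)| := by
    rw [abs_mul, abs_mul, abs_of_nonneg hB]
    exact mul_le_mul_of_nonneg_right hLP' (abs_nonneg _)
  have hsq : pr k (pb.obj L) (pb.obj P) ^ 2 ≤ B ^ 2 := sq_le_sq.2 (by rwa [abs_of_nonneg hB])
  rw [← h0, hsum L hL, abs_mul] at hbd
  have h1 := le_mul_of_one_le_left (abs_nonneg (H28Int.D k [L] (ClSub.quotMod ι.ker))) (le_abs.2 (Or.inl hcpos) :
    1 ≤ |∑ z ∈ T, c z|)
  have := abs_nonneg (H28Int.D k [L] (ClSub.quotMod ι.ker))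
  linarith

end surface

variable (k : Type u) [Field k] {X : Scheme.{u}} [X.Over (Spec (CommRingCat.of k))]
  [IsProper (X ↘ Spec (CommRingCat.of k))]

/-- Bounds on curves bound the degree on a module with support of dimension `≤ 1`. -/
theorem Q_bound_of_points (P : X.Modules → Prop) {F : X.Modules} (hF : Coh.IsCoh F)
    (hd : topologicalKrullDim (CohB1.support F) ≤ ((1 : ℕ) : WithBot ℕ∞))
    (h : ∀ z ∈ CohB1.support F, cdim z = ((1 : ℕ) : WithBot ℕ∞) →
      ∃ B : ℤ, ∀ L, PicF.IsInvertible L → P L → |NefQ.Q k [L] (H25K.redMod (DevLength.cl z))| ≤ B) :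
    ∃ B : ℤ, ∀ L, PicF.IsInvertible L → P L → |NefQ.Q k [L] F| ≤ B := by
  classical
  haveI := H28Int.isNoetherian k (X := X)
  let T := (DevLength.finite_points hF hd).toFinset
  have hT : ∀ z, z ∈ T ↔ z ∈ CohB1.support F ∧ cdim z = ((1 : ℕ) : WithBot ℕ∞) := fun z => Set.Finite.mem_toFinset _
  choose! B hB using h
  refine ⟨∑ z ∈ T, ((DevLength.len F z).toNat : ℤ) * B z, fun L hL hPL => ?_⟩
  have hl : ∀ A ∈ [L], PicF.IsInvertible A := List.forall_mem_singleton.2 hL
  rw [NefQ.Q, DevLength.eq_finsum (H28Int.isAddFn_D k _ hl) (d := 1)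
    (fun G hG hG' => H28Int.D_eq_zero k _ hl G hG hG') hF hd,
    finsum_eq_sum_of_support_subset _ (s := T) fun z hz => ?_]
  · rw [Finset.mul_sum]
    refine (Finset.abs_sum_le_sum_abs _ _).trans (Finset.sum_le_sum fun z hz => ?_)
    obtain ⟨hzs, hzd⟩ := (hT z).1 hz
    rw [if_pos (show topologicalKrullDim (closure ({z} : Set X)) = _ from hzd), mul_left_comm, abs_mul,
      Nat.abs_cast]
    exact mul_le_mul_of_nonneg_left (hB z hzs hzd L hL hPL) (Nat.cast_nonneg _)
  · rw [Function.mem_support] at hz
    by_cases hzd : topologicalKrullDim (closure ({z} : Set X)) = ((1 : ℕ) : WithBot ℕ∞)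
    · rw [if_pos hzd] at hz
      refine (hT z).2 ⟨?_, hzd⟩
      by_contra hn
      rw [DevLength.len_eq_zero hn] at hz
      simp at hz
    · rw [if_neg hzd] at hz
      exact absurd rfl hz

/-- Bounded degree and bounded-below square bound the degree on modules with support of dimension `≤ 1`. -/
theorem curve_bound : ∀ (d : ℕ) (k : Type u) [Field k] (X : Scheme.{u}) [X.Over (Spec (CommRingCat.of k))]
    [IsProper (X ↘ Spec (CommRingCat.of k))] [IsIntegral X],
    topologicalKrullDim X = ((d + 2 : ℕ) : WithBot ℕ∞) →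
    ∀ (H : X.Modules), CohB1.IsAmple H → ∀ (B : ℤ) (F : X.Modules), Coh.IsCoh F →
    topologicalKrullDim (CohB1.support F) ≤ ((1 : ℕ) : WithBot ℕ∞) →
    ∃ B' : ℤ, ∀ L : X.Modules, PicF.IsInvertible L →
      |NefQ.Q k (L :: List.replicate (d + 1) H) (Coh.structureModule X)| ≤ B →
      -B ≤ NefQ.Q k (L :: L :: List.replicate d H) (Coh.structureModule X) → |NefQ.Q k [L] F| ≤ B'
  | 0, k, _, X, _, _, _, hd, H, hH, B, F, hF, hFd => by
    haveI := H28Int.isNoetherian k (X := X)
    have hQ : ∀ A B : X.Modules, NefQ.Q k [A, B] (Coh.structureModule X) = H28Surf.pr k A B := fun A B => by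
      show (-1 : ℤ) ^ 2 * _ = _
      rw [neg_one_sq, one_mul]
    have hd2 : topologicalKrullDim X = 2 := by rw [hd]; rfl
    have hpos : 0 < H28Surf.pr k H H := by
      rw [← hQ]
      exact Nakai.top_pos k hH.1 (Nakai.pos_of_isAmple k hH) (d := 2) (by omega) (by rw [hd])
    obtain ⟨B', hB'⟩ := Q_bound_of_points k (fun L => |pr k L H| ≤ B ∧ -B ≤ pr k L L) hF hFd fun z _ hzd => by
      let V := Scheme.IdealSheafData.vanishingIdeal (DevLength.cl z)
      haveI : IsIntegral V.subscheme := isIntegral_vanishingIdeal_closure z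
      have hVd : topologicalKrullDim V.subscheme = 1 := by
        rw [NakaiPos.dim_subscheme, Scheme.IdealSheafData.coe_support_vanishingIdeal]; exact hzd
      obtain ⟨B', hB'⟩ := surface_curve_bound k hd2 hH.1 hpos V.subschemeι hVd B
      refine ⟨B', fun L hL hPL => ?_⟩
      have h := hB' L hL hPL.1 hPL.2
      rw [IntPullback.quotMod_ker, HodgeProper.subschemeι_genericPoint] at h
      rw [NefQ.Q, abs_mul]
      simpa using h
    exact ⟨B', fun L hL h1 h2 => hB' L hL ⟨by rw [← hQ]; exact h1, by rw [← hQ]; exact h2⟩⟩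
  | d + 1, k, _, X, _, _, _, hd, H, hH, B, F, hF, hFd => by
    haveI := H28Int.isNoetherian k (X := X)
    let K := KT k
    let q := qK k X
    haveI := H28Int.isNoetherian K (X := XK k X)
    haveI : IsAffineHom q :=
      MorphismProperty.of_isPullback (sq k X).flip (inferInstanceAs (IsAffineHom (baseT k)))
    have hS := H10Coh.isClosed_support F hF.2
    have hSd : ∀ x ∈ CohB1.support F, cdim x ≤ ((1 : ℕ) : WithBot ℕ∞) := fun x hx =>
      (H28Int.cdim_le_of_mem hS hx).trans hFd
    obtain ⟨ξ, a₀, ha₀, hξd, hξS, hrel⟩ := exists_cut k (m := d + 1) hd hH hS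
      (fun x hx => (hSd x hx).trans (WithBot.coe_le_coe.2 (by exact_mod_cast (by omega : 1 ≤ d + 1))))
    let J := Scheme.IdealSheafData.vanishingIdeal (DevLength.cl ξ)
    haveI : IsIntegral J.subscheme := isIntegral_vanishingIdeal_closure ξ
    let j := J.subschemeι
    letI : J.subscheme.Over (Spec (CommRingCat.of K)) := ⟨j ≫ (XK k X ↘ Spec (CommRingCat.of K))⟩
    haveI : IsProper (J.subscheme ↘ Spec (CommRingCat.of K)) := inferInstanceAs (IsProper (j ≫ _))
    haveI := H28Int.isNoetherian K (X := J.subscheme)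
    let P := fun A : X.Modules => (Scheme.Modules.pullback j).obj ((Scheme.Modules.pullback q).obj A)
    have hJd : topologicalKrullDim J.subscheme = ((d + 2 : ℕ) : WithBot ℕ∞) := by
      rw [NakaiPos.dim_subscheme, Scheme.IdealSheafData.coe_support_vanishingIdeal]
      exact hξd
    have hrel' : ∀ l : List X.Modules, (∀ A ∈ l, PicF.IsInvertible A) → l.length = d + 2 →
        ∃ c : ℤ, 0 < c ∧ a₀ * NefQ.Q k (H :: l) (Coh.structureModule X) =
          c * NefQ.Q K (l.map P) (Coh.structureModule J.subscheme) := by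
      intro l hl hlen
      obtain ⟨c, hc, h⟩ := hrel l hl hlen
      refine ⟨c, hc, h.trans ?_⟩
      have hl' : ∀ A ∈ l.map (Scheme.Modules.pullback q).obj, PicF.IsInvertible A := fun A hA => by
        obtain ⟨B, hB, rfl⟩ := List.mem_map.1 hA
        exact isInvertible_pullback q (hl B hB)
      have h2 := NefQ.Q_quotMod_ker K j rfl hl' (by rw [List.length_map, hlen, hJd])
      rw [List.map_map, J.ker_subschemeι] at h2
      rw [show l.map P = l.map ((Scheme.Modules.pullback j).obj ∘ (Scheme.Modules.pullback q).obj) from rfl, h2]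
      rfl
    have hHW : CohB1.IsAmple (P H) := isAmple_pullback_of_isAffineHom j (isAmple_pullback_of_isAffineHom q hH)
    let FK := (Scheme.Modules.pullback q).obj F
    have hFK : Coh.IsCoh FK := H17.ConsProp.isCoh_pullback q hF
    have hsupp : CohB1.support FK = q ⁻¹' CohB1.support F := LeadProper.support_pullback (g := q) F hF.1 hF.2
    have hFKd : topologicalKrullDim (CohB1.support FK) ≤ ((1 : ℕ) : WithBot ℕ∞) := by
      rw [hsupp]
      refine dim_le_of_forall_cdim (N := d + 1 + 2) (hS.preimage q.continuous)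
        ((Topology.IsInducing.subtypeVal.topologicalKrullDim_le).trans ?_) fun z hz => ?_
      · exact (H8Props.FieldDim.dim_baseChange (X ↘ Spec (CommRingCat.of k)) q _ (sq k X)).le.trans hd.le
      · exact (H8Props.FieldDim.baseChange_point (X ↘ Spec (CommRingCat.of k)) q _ (sq k X) z).1.trans (hSd _ hz)
    let B₁ := a₀ * |B|
    obtain ⟨B', hB'⟩ := Q_bound_of_points K
      (fun M => |NefQ.Q K ((Scheme.Modules.pullback j).obj M :: List.replicate (d + 1) (P H))
          (Coh.structureModule J.subscheme)| ≤ B₁ ∧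
        -B₁ ≤ NefQ.Q K ((Scheme.Modules.pullback j).obj M :: (Scheme.Modules.pullback j).obj M ::
          List.replicate d (P H)) (Coh.structureModule J.subscheme)) hFK hFKd fun z hzs hzd => by
      obtain ⟨y, hy⟩ : z ∈ Set.range j := by
        rw [H17.range_vanishingIdeal_subschemeι]
        exact hξS (hsupp.le hzs)
      let I := Scheme.IdealSheafData.vanishingIdeal (DevLength.cl y)
      haveI : IsIntegral I.subscheme := isIntegral_vanishingIdeal_closure y
      have hgen : (I.subschemeι ≫ j) (genericPoint I.subscheme) = z := by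
        rw [Scheme.Hom.comp_apply, HodgeProper.subschemeι_genericPoint]
        exact hy
      have hId : topologicalKrullDim I.subscheme = ((1 : ℕ) : WithBot ℕ∞) := by
        rw [(I.subschemeι ≫ j).isClosedEmbedding.isEmbedding.toHomeomorph.isHomeomorph.topologicalKrullDim_eq,
          LeadDev.range_eq_closure (I.subschemeι ≫ j) (ξ := z) hgen]
        exact hzd
      obtain ⟨B', hB'⟩ := curve_bound d K J.subscheme hJd (P H) hHW B₁ (ClSub.quotMod I.subschemeι.ker)
        (LeadDev.isCoh_push_structure _) (by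
          refine (H28Int.dim_le_of_subset (B := Set.range I.subschemeι) fun x hx => ?_).trans
            (le_of_eq ?_)
          · rw [IntPullback.quotMod_ker I.subschemeι] at hx
            exact closure_minimal (Set.singleton_subset_iff.2 (Set.mem_range_self (genericPoint I.subscheme)))
              I.subschemeι.isClosedEmbedding.isClosed_range (H25K.support_redMod_subset _ hx)
          · rw [← I.subschemeι.isClosedEmbedding.isEmbedding.toHomeomorph.isHomeomorph.topologicalKrullDim_eq]
            exact hId)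
      refine ⟨B', fun M hM hPM => ?_⟩
      have h5 := hB' _ (isInvertible_pullback j hM) hPM.1 hPM.2
      rw [show [(Scheme.Modules.pullback j).obj M] = [M].map (Scheme.Modules.pullback j).obj from rfl,
        NefQ.Q_restrict K j rfl I.subschemeι (List.forall_mem_singleton.2 hM) hId, IntPullback.quotMod_ker, hgen] at h5
      exact h5
    refine ⟨B', fun L hL h1 h2 => ?_⟩
    rw [← NefBC.Q_bc k K (sq k X) hL hF]
    refine hB' _ (isInvertible_pullback q hL) ⟨?_, ?_⟩
    · have hl1 : ∀ A ∈ L :: List.replicate (d + 1) H, PicF.IsInvertible A :=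
        List.forall_mem_cons.2 ⟨hL, fun A hA => List.eq_of_mem_replicate hA ▸ hH.1⟩
      obtain ⟨c, hc, h⟩ := hrel' _ hl1 (by simp)
      rw [NefQ.Q_perm k (List.Perm.swap L H _) (List.forall_mem_cons.2 ⟨hH.1, hl1⟩)] at h
      simp only [List.map_cons, List.map_replicate] at h
      have h' := congrArg (|·|) h
      simp only [abs_mul, abs_of_pos ha₀, abs_of_pos hc] at h'
      calc |NefQ.Q K (P L :: List.replicate (d + 1) (P H)) (Coh.structureModule J.subscheme)|
          ≤ c * |NefQ.Q K (P L :: List.replicate (d + 1) (P H)) (Coh.structureModule J.subscheme)| :=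
            le_mul_of_one_le_left (abs_nonneg _) hc
        _ = a₀ * |NefQ.Q k (L :: List.replicate (d + 2) H) (Coh.structureModule X)| := h'.symm
        _ ≤ B₁ := mul_le_mul_of_nonneg_left (h1.trans (le_abs_self B)) ha₀.le
    · have hl2 : ∀ A ∈ L :: L :: List.replicate d H, PicF.IsInvertible A :=
        List.forall_mem_cons.2 ⟨hL, List.forall_mem_cons.2 ⟨hL, fun A hA => List.eq_of_mem_replicate hA ▸ hH.1⟩⟩
      obtain ⟨c, hc, h⟩ := hrel' _ hl2 (by simp)
      rw [NefQ.Q_perm k ((List.Perm.swap L H _).trans ((List.Perm.swap L H _).cons L))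
          (List.forall_mem_cons.2 ⟨hH.1, hl2⟩)] at h
      simp only [List.map_cons, List.map_replicate] at h
      change a₀ * NefQ.Q k (L :: L :: List.replicate (d + 1) H) _ =
        c * NefQ.Q K (P L :: P L :: List.replicate d (P H)) _ at h
      have h3 : -B₁ ≤ a₀ * NefQ.Q k (L :: L :: List.replicate (d + 1) H) (Coh.structureModule X) := by
        have := mul_le_mul_of_nonneg_left h2 ha₀.le
        have := mul_le_mul_of_nonneg_left (le_abs_self B) ha₀.le
        simp only [B₁]
        linarith
      rw [h] at h3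
      change -B₁ ≤ NefQ.Q K (P L :: P L :: List.replicate d (P H)) _
      rcases le_total 0 (NefQ.Q K (P L :: P L :: List.replicate d (P H)) (Coh.structureModule J.subscheme)) with h' | h'
      · exact (neg_nonpos.2 (mul_nonneg ha₀.le (abs_nonneg B))).trans h'
      · exact h3.trans (mul_le_of_one_le_left h' hc)

end Groth.Agent.H12Pic.Hodge
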