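import Groth.Agent.H12Pic.Hodge.Pencil
import Groth.Agent.H12Pic.Hodge.Restrict

/-!
# The Hodge index theorem in every dimension, over any field

For an integral scheme with an ample class `H`, a class orthogonal to `H^{r-1}` has `(L²·H^{r-2}) ≤ 0`,
with equality only for classes of degree zero on all curves.
-/

set_option autoImplicit false
set_option linter.style.haveILetI false
set_option linter.unusedSectionVars false
universe u

open CategoryTheory CategoryTheory.Limits AlgebraicGeometry TopologicalSpace Opposite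
open Groth.Agent.H11Ample Groth.Agent.H22Alg
open Groth.Agent.H8Props.FieldDim (cdim)

noncomputable section

namespace Groth.Agent.H12Pic.Hodge

theorem index : ∀ (d : ℕ) (k : Type u) [Field k] (X : Scheme.{u}) [X.Over (Spec (CommRingCat.of k))]
    [IsProper (X ↘ Spec (CommRingCat.of k))] [IsIntegral X],
    topologicalKrullDim X = ((d + 2 : ℕ) : WithBot ℕ∞) →
    ∀ (H L : X.Modules), CohB1.IsAmple H → PicF.IsInvertible L →
    NefQ.Q k (L :: List.replicate (d + 1) H) (Coh.structureModule X) = 0 →
    NefQ.Q k (L :: L :: List.replicate d H) (Coh.structureModule X) ≤ 0 ∧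
      (0 ≤ NefQ.Q k (L :: L :: List.replicate d H) (Coh.structureModule X) →
        ∀ (Z : Scheme.{u}) (i : Z ⟶ X) [IsClosedImmersion i] [IsIntegral Z],
          topologicalKrullDim Z = ((1 : ℕ) : WithBot ℕ∞) → NefQ.Q k [L] (ClSub.quotMod i.ker) = 0)
  | 0, k, _, X, _, _, _, hd, H, L, hH, hL, h0 => by
    haveI := H28Int.isNoetherian k (X := X)
    have hQ : ∀ A B : X.Modules, NefQ.Q k [A, B] (Coh.structureModule X) = H28Surf.pr k A B := fun A B => by
      show (-1 : ℤ) ^ 2 * _ = _
      rw [neg_one_sq, one_mul]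
    have hd2 : topologicalKrullDim X = 2 := by rw [hd]; rfl
    change NefQ.Q k [L, H] _ = 0 at h0
    show NefQ.Q k [L, L] _ ≤ 0 ∧ (0 ≤ NefQ.Q k [L, L] _ → _)
    rw [hQ] at h0 ⊢
    have hpos : 0 < H28Surf.pr k H H := by
      rw [← hQ]
      have h := Nakai.top_pos k hH.1 (Nakai.pos_of_isAmple k hH) (d := 2) (by omega) (by rw [hd])
      exact h
    refine ⟨H28RR.HodgeIndex.pr_self_nonpos_of_orth k hd2 hH hH.1 hL hpos (by rw [H28Surf.pr_symm k]; exact h0),
      fun hnn Z i _ _ hZ => ?_⟩
    show (-1 : ℤ) ^ 1 * _ = 0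
    rw [H28RR.HodgeProper.D_curve_eq_zero k hd2 hH.1 hL hpos h0 hnn i (by rw [hZ]; rfl), mul_zero]
  | d + 1, k, _, X, _, _, _, hd, H, L, hH, hL, h0 => by
    haveI := H28Int.isNoetherian k (X := X)
    let K := KT k
    let q := qK k X
    haveI := H28Int.isNoetherian K (X := XK k X)
    haveI : IsAffineHom q :=
      MorphismProperty.of_isPullback (sq k X).flip (inferInstanceAs (IsAffineHom (baseT k)))
    have hstep : ∀ {S : Set X}, IsClosed S → (∀ x ∈ S, cdim x ≤ ((1 : ℕ) : WithBot ℕ∞)) →
        NefQ.Q k (L :: L :: List.replicate (d + 1) H) (Coh.structureModule X) ≤ 0 ∧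
        (0 ≤ NefQ.Q k (L :: L :: List.replicate (d + 1) H) (Coh.structureModule X) →
          ∀ F : X.Modules, Coh.IsCoh F → CohB1.support F ⊆ S → NefQ.Q k [L] F = 0) := by
      intro S hS hSd
      obtain ⟨ξ, a₀, ha₀, hξd, hξS, hrel⟩ := exists_cut k (m := d + 1) hd hH hS
        (fun x hx => (hSd x hx).trans (WithBot.coe_le_coe.2 (by exact_mod_cast (by omega : 1 ≤ d + 1))))
      let J := Scheme.IdealSheafData.vanishingIdeal (DevLength.cl ξ)
      haveI : IsIntegral J.subscheme := isIntegral_vanishingIdeal_closure ξ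
      let j := J.subschemeι
      letI : J.subscheme.Over (Spec (CommRingCat.of K)) := ⟨j ≫ (XK k X ↘ Spec (CommRingCat.of K))⟩
      haveI : IsProper (J.subscheme ↘ Spec (CommRingCat.of K)) := inferInstanceAs (IsProper (j ≫ _))
      haveI := H28Int.isNoetherian K (X := J.subscheme)
      let P := fun A : X.Modules => (Scheme.Modules.pullback j).obj ((Scheme.Modules.pullback q).obj A)
      have hJd : topologicalKrullDim J.subscheme = ((d + 2 : ℕ) : WithBot ℕ∞) := by
        rw [NakaiPos.dim_subscheme, Scheme.IdealSheafData.coe_support_vanishingIdeal]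
        exact hξd
      have hrel' : ∀ l : List X.Modules, (∀ A ∈ l, PicF.IsInvertible A) → l.length = d + 2 →
          ∃ a c : ℤ, 0 < a ∧ 0 < c ∧ a * NefQ.Q k (H :: l) (Coh.structureModule X) =
            c * NefQ.Q K (l.map P) (Coh.structureModule J.subscheme) := by
        intro l hl hlen
        obtain ⟨c, hc, h⟩ := hrel l hl hlen
        refine ⟨a₀, c, ha₀, hc, h.trans ?_⟩
        have hl' : ∀ A ∈ l.map (Scheme.Modules.pullback q).obj, PicF.IsInvertible A := fun A hA => by
          obtain ⟨B, hB, rfl⟩ := List.mem_map.1 hA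
          exact isInvertible_pullback q (hl B hB)
        have h2 := NefQ.Q_quotMod_ker K j rfl hl' (by rw [List.length_map, hlen, hJd])
        rw [List.map_map, J.ker_subschemeι] at h2
        rw [show l.map P = l.map ((Scheme.Modules.pullback j).obj ∘ (Scheme.Modules.pullback q).obj) from rfl, h2]
        rfl
      have hl1 : ∀ A ∈ L :: List.replicate (d + 1) H, PicF.IsInvertible A :=
        List.forall_mem_cons.2 ⟨hL, fun A hA => List.eq_of_mem_replicate hA ▸ hH.1⟩
      have hl2 : ∀ A ∈ L :: L :: List.replicate d H, PicF.IsInvertible A :=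
        List.forall_mem_cons.2 ⟨hL, List.forall_mem_cons.2 ⟨hL, fun A hA => List.eq_of_mem_replicate hA ▸ hH.1⟩⟩
      obtain ⟨a₁, c₁, -, hc₁, h₁⟩ := hrel' _ hl1 (by simp)
      obtain ⟨a₂, c₂, ha₂, hc₂, h₂⟩ := hrel' _ hl2 (by simp)
      have hs1 : NefQ.Q k (H :: L :: List.replicate (d + 1) H) (Coh.structureModule X) =
          NefQ.Q k (L :: List.replicate (d + 2) H) (Coh.structureModule X) :=
        NefQ.Q_perm k (List.Perm.swap L H _) (List.forall_mem_cons.2 ⟨hH.1, hl1⟩) _
      have hs2 : NefQ.Q k (H :: L :: L :: List.replicate d H) (Coh.structureModule X) =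
          NefQ.Q k (L :: L :: List.replicate (d + 1) H) (Coh.structureModule X) :=
        NefQ.Q_perm k ((List.Perm.swap L H _).trans ((List.Perm.swap L H _).cons L))
          (List.forall_mem_cons.2 ⟨hH.1, hl2⟩) _
      rw [hs1, h0, mul_zero] at h₁
      rw [hs2] at h₂
      simp only [List.map_cons, List.map_replicate] at h₁ h₂
      have hHW : CohB1.IsAmple (P H) := isAmple_pullback_of_isAffineHom j (isAmple_pullback_of_isAffineHom q hH)
      have hLW : PicF.IsInvertible (P L) := isInvertible_pullback j (isInvertible_pullback q hL)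
      obtain ⟨hle, hcurve⟩ := index d K J.subscheme hJd (P H) (P L) hHW hLW
        ((mul_eq_zero.1 h₁.symm).resolve_left hc₁.ne')
      refine ⟨nonpos_of_mul_nonpos_right (h₂ ▸ mul_nonpos_of_nonneg_of_nonpos hc₂.le hle) ha₂, fun hnn F hF hFS => ?_⟩
      have hW0 := hcurve (nonneg_of_mul_nonneg_right (h₂ ▸ mul_nonneg ha₂.le hnn) hc₂)
      rw [← NefBC.Q_bc k K (sq k X) hL hF]
      have hsupp := LeadProper.support_pullback (g := q) F hF.1 hF.2
      refine Q_eq_zero_of_restrict K j rfl (isInvertible_pullback q hL) (fun Z i _ _ hZ => hW0 Z i hZ)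
        (H17.ConsProp.isCoh_pullback q hF) ?_ ?_
      · rw [hsupp, H17.range_vanishingIdeal_subschemeι]
        exact (Set.preimage_mono hFS).trans hξS
      · rw [hsupp]
        refine dim_le_of_forall_cdim (N := d + 1 + 2) ((H10Coh.isClosed_support F hF.2).preimage q.continuous)
          ((Topology.IsInducing.subtypeVal.topologicalKrullDim_le).trans ?_) fun z hz => ?_
        · exact (H8Props.FieldDim.dim_baseChange (X ↘ Spec (CommRingCat.of k)) q _ (sq k X)).le.trans hd.le
        · exact (H8Props.FieldDim.baseChange_point (X ↘ Spec (CommRingCat.of k)) q _ (sq k X) z).1.trans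
            (hSd _ (hFS hz))
    refine ⟨(hstep isClosed_empty (fun x hx => absurd hx (Set.notMem_empty x))).1, fun hnn Z i _ _ hZ => ?_⟩
    have hSd : ∀ x ∈ Set.range i, cdim x ≤ ((1 : ℕ) : WithBot ℕ∞) := fun x hx =>
      (H28Int.cdim_le_of_mem i.isClosedEmbedding.isClosed_range hx).trans
        (le_of_eq (by rw [← i.isClosedEmbedding.isEmbedding.toHomeomorph.isHomeomorph.topologicalKrullDim_eq, hZ]))
    refine (hstep i.isClosedEmbedding.isClosed_range hSd).2 hnn _ (LeadDev.isCoh_push_structure _) ?_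
    rw [IntPullback.quotMod_ker i]
    exact (H25K.support_redMod_subset _).trans
      (closure_minimal (Set.singleton_subset_iff.2 ⟨_, rfl⟩) i.isClosedEmbedding.isClosed_range)

end Groth.Agent.H12Pic.Hodge
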