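import Groth.Agent.H12Pic.Hodge.Index

/-!
# Numerical triviality from two intersection numbers
-/

set_option autoImplicit false
set_option linter.style.haveILetI false
set_option linter.unusedSectionVars false
universe u

open CategoryTheory CategoryTheory.Limits AlgebraicGeometry TopologicalSpace Opposite
open Groth.Agent.H11Ample Groth.Agent.H22Alg

noncomputable section

namespace Groth.Agent.H12Pic.Hodge

variable (k : Type u) [Field k] {X : Scheme.{u}} [X.Over (Spec (CommRingCat.of k))]
  [IsProper (X ↘ Spec (CommRingCat.of k))]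

/-- The index inequality on an irreducible scheme, with the case of equality. -/
theorem index_irreducible [IrreducibleSpace X] {d : ℕ} (hd : topologicalKrullDim X = ((d + 2 : ℕ) : WithBot ℕ∞))
    {H L : X.Modules} (hH : CohB1.IsAmple H) (hL : PicF.IsInvertible L)
    (h0 : NefQ.Q k (L :: List.replicate (d + 1) H) (Coh.structureModule X) = 0) :
    NefQ.Q k (L :: L :: List.replicate d H) (Coh.structureModule X) ≤ 0 ∧
      (0 ≤ NefQ.Q k (L :: L :: List.replicate d H) (Coh.structureModule X) → Pic13.IsNumEquivZero k X L) := by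
  haveI := H28Int.isNoetherian k (X := X)
  obtain ⟨W, oW, pW, hW, j, hji, hj, hrange, hWd, c, hc, hrel⟩ := exists_red k hd
  letI := oW
  haveI := pW; haveI := hW; haveI := hji
  have hl1 : ∀ A ∈ L :: List.replicate (d + 1) H, PicF.IsInvertible A :=
    List.forall_mem_cons.2 ⟨hL, fun A hA => List.eq_of_mem_replicate hA ▸ hH.1⟩
  have hl2 : ∀ A ∈ L :: L :: List.replicate d H, PicF.IsInvertible A :=
    List.forall_mem_cons.2 ⟨hL, List.forall_mem_cons.2 ⟨hL, fun A hA => List.eq_of_mem_replicate hA ▸ hH.1⟩⟩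
  have h₁ := hrel _ hl1 (by simp)
  have h₂ := hrel _ hl2 (by simp)
  rw [h0] at h₁
  simp only [List.map_cons, List.map_replicate] at h₁ h₂
  obtain ⟨hle, hcurve⟩ := index d k W hWd _ _ (isAmple_pullback_of_isAffineHom j hH)
    (isInvertible_pullback j hL) ((mul_eq_zero.1 h₁.symm).resolve_left hc.ne')
  refine ⟨h₂ ▸ mul_nonpos_of_nonneg_of_nonpos hc.le hle, fun hnn => ?_⟩
  have hW0 := hcurve (nonneg_of_mul_nonneg_right (h₂ ▸ hnn) hc)
  exact (NumTriv.num_iff_Q k hL).2 fun Z i _ _ hZ => Q_eq_zero_of_restrict k j hj hL (fun Z' i' _ _ hZ' => hW0 Z' i' hZ')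
    (LeadDev.isCoh_push_structure _) (by rw [hrange]; exact Set.subset_univ _) (NefBC.support_quotMod_ker_le k i hZ)

end Groth.Agent.H12Pic.Hodge
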