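import Groth.Agent.H12Pic.Hodge.Chart
import Groth.Agent.H12Pic.Hodge.Cut
import Groth.Agent.H22Alg.Nakai
import Groth.Agent.H22Alg.NefQ

/-!
# Cutting an integral scheme by a generic member of a pencil

Over the rational function field, a generic member of a pencil of sections of an ample power has a single
component of codimension one, and it contains any prescribed small closed set in the base locus.
-/

set_option autoImplicit false
set_option linter.style.haveILetI false
set_option linter.unusedSectionVars false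
universe u

open CategoryTheory CategoryTheory.Limits AlgebraicGeometry TopologicalSpace Opposite
open Groth.Agent.H11Ample Groth.Agent.H11Tilde Groth.Agent.H22Alg
open Groth.Agent.H8Props.FieldDim (cdim)

noncomputable section

namespace Groth.Agent.H12Pic.Hodge

theorem le_of_lt_succ {a : WithBot ℕ∞} {n : ℕ} (h : a < ((n + 1 : ℕ) : WithBot ℕ∞)) :
    a ≤ (n : WithBot ℕ∞) := by
  rcases a with _ | b
  · exact bot_le
  · have : b < ((n + 1 : ℕ) : ℕ∞) := WithBot.coe_lt_coe.1 h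
    exact WithBot.coe_le_coe.2 (ENat.lt_natCast_add_one_iff.1 (by exact_mod_cast this))

variable (k : Type u) [Field k] {X : Scheme.{u}} [X.Over (Spec (CommRingCat.of k))]
  [IsProper (X ↘ Spec (CommRingCat.of k))]

omit [X.Over (Spec (CommRingCat.of k))] [IsProper (X ↘ Spec (CommRingCat.of k))] in
theorem exists_power_section {L : X.Modules} (hL : PicF.IsInvertible L) {a : ℕ}
    (s : Γ(CohB1.tensorPow L a, ⊤)) {d : ℕ} (hd : 0 < d) :
    ∃ t : Γ(CohB1.tensorPow L (a * d), ⊤), gen _ t = gen _ s := by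
  obtain ⟨φ, -⟩ := exists_iso_mul hL a d
  obtain ⟨t, ht⟩ := exists_section_of_eq rfl (φ.hom.app ⊤ (spow s d))
  exact ⟨t, by rw [ht, gen_iso, gen_spow (isInvertible_tensorPow hL _) _ d hd]⟩

include k in
/-- Two sections of an ample power, one with affine locus, vanishing on a small closed set, with small base locus. -/
theorem exists_sections [IsIntegral X] {m : ℕ} (hd : topologicalKrullDim X = ((m + 2 : ℕ) : WithBot ℕ∞))
    {H : X.Modules} (hH : CohB1.IsAmple H) {S : Set X} (hS : IsClosed S) (hSd : ∀ x ∈ S, cdim x ≤ (m : WithBot ℕ∞)) :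
    ∃ (a : ℕ) (s₀ s₁ : Γ(CohB1.tensorPow H a, ⊤)), 0 < a ∧ IsAffineOpen (gen _ s₁) ∧
      genericPoint X ∈ gen _ s₁ ∧ (∀ x ∈ S, x ∉ gen _ s₀ ∧ x ∉ gen _ s₁) ∧
      ∀ x, x ∉ gen _ s₀ → x ∉ gen _ s₁ → cdim x ≤ (m : WithBot ℕ∞) := by
  haveI := H28Int.isNoetherian k (X := X)
  haveI : CompactSpace X := hH.2.1
  haveI : QuasiSeparatedSpace X := quasiSeparatedSpace_of_quasiSeparated (X ↘ Spec (CommRingCat.of k))
  let η := genericPoint X
  have hη : cdim η = ((m + 2 : ℕ) : WithBot ℕ∞) := by rw [VarDim.cdim_genericPoint X, hd]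
  have hηS : η ∉ S := fun h => by
    have := hSd η h
    rw [hη] at this
    exact absurd this (not_le.2 (WithBot.coe_lt_coe.2 (ENat.natCast_lt_natCast.2 (by omega))))
  let U : X.Opens := ⟨Sᶜ, hS.isOpen_compl⟩
  obtain ⟨a₀, σ₀, ha₀, hσ₀, hσ₀U, -⟩ := exists_affine_gen_nhd_finite hH (Set.finite_singleton η)
    (U := U) (Set.singleton_subset_iff.2 hηS)
  let N := CohB1.tensorPow H a₀
  have hN : PicF.IsInvertible N := isInvertible_tensorPow hH.1 a₀
  have hne : σ₀ ≠ 0 := by
    intro h0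
    have hle := gen_smul_le_basicOpen hN (0 : Γ(X, ⊤)) σ₀
    rw [zero_smul, Scheme.basicOpen_zero, ← h0] at hle
    exact (hle (hσ₀ rfl) : genericPoint X ∈ (⊥ : X.Opens))
  obtain ⟨N', hN'i, ⟨e₀⟩⟩ := H11Sym.exists_inverse hN
  obtain ⟨C, hC, hCd, -, hsupp, -⟩ := H28Int.Surface.exists_zero_locus k
    (l := List.replicate (m + 1) H) (fun A hA => List.eq_of_mem_replicate hA ▸ hH.1)
    (by rw [List.length_replicate, hd]) hN hN'i (H10Coh.Tw.commIso N N' ≪≫ e₀) hne
  rw [List.length_replicate] at hCd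
  let T := {x : X | x ∈ CohB1.support C ∧ topologicalKrullDim (closure ({x} : Set X)) = ((m + 1 : ℕ) : WithBot ℕ∞)}
  have hT : T.Finite := DevLength.finite_points hC hCd
  have hTU : T ∪ {η} ⊆ (U : Set X) := by
    rintro x (⟨-, hx⟩ | hx)
    · intro hxS
      have := hSd x hxS
      change topologicalKrullDim (closure ({x} : Set X)) ≤ _ at this
      rw [hx] at this
      exact absurd this (not_le.2 (WithBot.coe_lt_coe.2 (ENat.natCast_lt_natCast.2 (by omega))))
    · exact Set.mem_singleton_iff.1 hx ▸ hηS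
  obtain ⟨a₁, σ₁, ha₁, hσ₁, hσ₁U, hσ₁a⟩ := exists_affine_gen_nhd_finite hH (hT.union (Set.finite_singleton η))
    (U := U) hTU
  obtain ⟨t₀, ht₀⟩ := exists_power_section hH.1 σ₀ ha₁
  obtain ⟨t₁, ht₁⟩ := exists_power_section hH.1 σ₁ ha₀
  obtain ⟨t₁', ht₁'⟩ := exists_section_of_eq (Nat.mul_comm a₁ a₀) t₁
  refine ⟨a₀ * a₁, t₀, t₁', Nat.mul_pos ha₀ ha₁, by rw [ht₁', ht₁]; exact hσ₁a, ?_, fun x hx => ⟨?_, ?_⟩, fun x h0 h1 => ?_⟩
  · rw [ht₁', ht₁]; exact hσ₁ (Or.inr rfl)
  · rw [ht₀]; exact fun h => hσ₀U h hx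
  · rw [ht₁', ht₁]; exact fun h => hσ₁U h hx
  · rw [ht₀] at h0
    rw [ht₁', ht₁] at h1
    have hxη : x ≠ η := fun e => h0 (e ▸ hσ₀ rfl)
    have hle : cdim x ≤ ((m + 1 : ℕ) : WithBot ℕ∞) :=
      le_of_lt_succ (DevLength.dim_closure_lt (genericPoint_specializes x) hxη hη.le)
    rcases hle.eq_or_lt with heq | hlt
    · exact absurd (hσ₁ (Or.inl ⟨hsupp x h0, heq⟩)) h1
    · exact le_of_lt_succ hlt

section member

variable {N : X.Modules} (s₀ s₁ : Γ(N, ⊤))

/-- The generic member. -/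
abbrev member : Γ((Scheme.Modules.pullback (qK k X)).obj N, ⊤) :=
  pullTop (qK k X) s₀ + tG k X • pullTop (qK k X) s₁

/-- The generic member in a local frame. -/
theorem gen_member {V : X.Opens} {e : Γ(N, V)} (he : IsGen N e) {a₀ a₁ : Γ(X, V)}
    (h₀ : N.presheaf.map (homOfLE (le_top : V ≤ ⊤)).op s₀ = a₀ • e)
    (h₁ : N.presheaf.map (homOfLE (le_top : V ≤ ⊤)).op s₁ = a₁ • e) :
    gen _ (member k s₀ s₁) ⊓ qK k X ⁻¹ᵁ V = (XK k X).basicOpen ((qK k X).app V a₀ +
      (XK k X).presheaf.map (homOfLE (le_top : qK k X ⁻¹ᵁ V ≤ ⊤)).op (tG k X) * (qK k X).app V a₁) := by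
  refine gen_inf_eq_basicOpen (IsGen.pullSect (qK k X) he) _ _ ?_
  rw [map_add, Scheme.Modules.map_smul, add_smul, mul_smul]
  congr 1
  · refine (pullSect_res (qK k X) N (le_top : V ≤ ⊤) s₀).symm.trans ?_
    rw [h₀, OmegaSh.pullSect_smul]
  · congr 1
    refine (pullSect_res (qK k X) N (le_top : V ≤ ⊤) s₁).symm.trans ?_
    rw [h₁, OmegaSh.pullSect_smul]

/-- Membership in the loci, in terms of units in the local ring. -/
theorem member_iff (hN : PicF.IsInvertible N) (z : XK k X) :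
    ∃ (u v w : (XK k X).presheaf.stalk z), (qK k X z ∈ gen N s₀ ↔ IsUnit u) ∧ (qK k X z ∈ gen N s₁ ↔ IsUnit v) ∧
      (z ∈ gen _ (member k s₀ s₁) ↔ IsUnit (u + w * v)) := by
  obtain ⟨V, e, hzV, he⟩ := exists_gen hN (qK k X z)
  obtain ⟨a₀, h₀⟩ := exists_coeff he (N.presheaf.map (homOfLE (le_top : V ≤ ⊤)).op s₀)
  obtain ⟨a₁, h₁⟩ := exists_coeff he (N.presheaf.map (homOfLE (le_top : V ≤ ⊤)).op s₁)
  have hz : z ∈ qK k X ⁻¹ᵁ V := hzV
  refine ⟨(XK k X).presheaf.germ _ z hz ((qK k X).app V a₀), (XK k X).presheaf.germ _ z hz ((qK k X).app V a₁),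
    (XK k X).presheaf.germ _ z hz ((XK k X).presheaf.map (homOfLE (le_top : qK k X ⁻¹ᵁ V ≤ ⊤)).op (tG k X)),
    ?_, ?_, ?_⟩
  · rw [← Scheme.mem_basicOpen _ _ _ hz, ← Scheme.preimage_basicOpen, ← gen_inf_eq_basicOpen he s₀ a₀ h₀]
    exact ⟨fun h => ⟨h, hzV⟩, fun h => h.1⟩
  · rw [← Scheme.mem_basicOpen _ _ _ hz, ← Scheme.preimage_basicOpen, ← gen_inf_eq_basicOpen he s₁ a₁ h₁]
    exact ⟨fun h => ⟨h, hzV⟩, fun h => h.1⟩
  · rw [← map_mul, ← map_add, ← Scheme.mem_basicOpen _ _ _ hz, ← gen_member k s₀ s₁ he h₀ h₁]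
    exact ⟨fun h => ⟨h, hz⟩, fun h => h.1⟩

/-- Where both sections vanish, so does the generic member. -/
theorem notMem_member (hN : PicF.IsInvertible N) {z : XK k X} (h0 : qK k X z ∉ gen N s₀) (h1 : qK k X z ∉ gen N s₁) :
    z ∉ gen _ (member k s₀ s₁) := by
  obtain ⟨u, v, w, hu, hv, huv⟩ := member_iff k s₀ s₁ hN z
  rw [huv]
  exact IsLocalRing.nonunits_add (fun h => h0 (hu.2 h))
    (fun h => h1 (hv.2 (isUnit_of_mul_isUnit_right h)))

/-- Where the second section and the generic member vanish, so does the first. -/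
theorem notMem_fst (hN : PicF.IsInvertible N) {z : XK k X} (hz : z ∉ gen _ (member k s₀ s₁))
    (h1 : qK k X z ∉ gen N s₁) : qK k X z ∉ gen N s₀ := by
  obtain ⟨u, v, w, hu, hv, huv⟩ := member_iff k s₀ s₁ hN z
  rw [huv] at hz
  intro h0
  rcases IsLocalRing.isUnit_or_isUnit_of_isUnit_add (a := u + w * v) (b := -(w * v))
    (by simpa using hu.1 h0) with h | h
  · exact hz h
  · exact h1 (hv.2 (isUnit_of_mul_isUnit_right ((IsUnit.neg_iff _).1 h)))

/-- On the affine locus of the second section the zero set of the generic member is irreducible and not everything. -/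
theorem member_chart [IsIntegral X] (hU : IsAffineOpen (gen N s₁)) (hne : (gen N s₁ : Set X).Nonempty) :
    IsPreirreducible ((qK k X ⁻¹ᵁ gen N s₁ : Set (XK k X)) \ (gen _ (member k s₀ s₁) : Set (XK k X))) ∧
      (gen _ (member k s₀ s₁) : Set (XK k X)).Nonempty := by
  have he := isGen_gen (L := N) s₁
  obtain ⟨f, hf⟩ := exists_coeff he (N.presheaf.map (homOfLE (le_top : gen N s₁ ≤ ⊤)).op s₀)
  have h := gen_member k s₀ s₁ he (a₁ := 1) hf (one_smul _ _).symm
  rw [map_one, mul_one] at h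
  obtain ⟨hirr, hnonempty⟩ := chart_zero k X hU hne f
  have hdiff : ((qK k X ⁻¹ᵁ gen N s₁ : Set (XK k X)) \ (gen _ (member k s₀ s₁) : Set (XK k X))) =
      (qK k X ⁻¹ᵁ gen N s₁ : Set (XK k X)) \ ((gen _ (member k s₀ s₁) ⊓ qK k X ⁻¹ᵁ gen N s₁ : (XK k X).Opens) :
        Set (XK k X)) := by
    ext z; simp
  rw [hdiff, h]
  refine ⟨hirr, ?_⟩
  obtain ⟨z, hz⟩ := hnonempty
  rw [← h] at hz
  exact ⟨z, hz.1⟩

end member

/-- An integral closed subscheme cut by a generic member, containing a given small closed set, whose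
intersection numbers are those of the ample module times positive factors. -/
theorem exists_cut [IsIntegral X] {m : ℕ} (hd : topologicalKrullDim X = ((m + 2 : ℕ) : WithBot ℕ∞))
    {H : X.Modules} (hH : CohB1.IsAmple H) {S : Set X} (hS : IsClosed S) (hSd : ∀ x ∈ S, cdim x ≤ (m : WithBot ℕ∞)) :
    ∃ (ξ : XK k X) (a : ℤ), 0 < a ∧ cdim ξ = ((m + 1 : ℕ) : WithBot ℕ∞) ∧ qK k X ⁻¹' S ⊆ closure {ξ} ∧
      ∀ l : List X.Modules, (∀ A ∈ l, PicF.IsInvertible A) → l.length = m + 1 →
        ∃ c : ℤ, 0 < c ∧ a * NefQ.Q k (H :: l) (Coh.structureModule X) =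
          c * NefQ.Q (KT k) (l.map (Scheme.Modules.pullback (qK k X)).obj) (H25K.redMod (DevLength.cl ξ)) := by
  obtain ⟨a, s₀, s₁, ha, hU, hηU, hvS, hB⟩ := exists_sections k hd hH hS hSd
  let q := qK k X
  haveI := H28Int.isNoetherian k (X := X)
  haveI := H28Int.isNoetherian (KT k) (X := XK k X)
  let N := CohB1.tensorPow H a
  have hN : PicF.IsInvertible N := isInvertible_tensorPow hH.1 a
  let σ := member k s₀ s₁
  let NK := (Scheme.Modules.pullback q).obj N
  have hNK : PicF.IsInvertible NK := isInvertible_pullback q hN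
  obtain ⟨hirr, hnonempty⟩ := member_chart k s₀ s₁ hU ⟨_, hηU⟩
  have hgen : genericPoint (XK k X) ∈ gen NK σ :=
    ((genericPoint_spec (XK k X)).mem_open_set_iff (gen NK σ).isOpen).2 (by simpa using hnonempty)
  have hdK : topologicalKrullDim (XK k X) = ((m + 2 : ℕ) : WithBot ℕ∞) := by
    rw [H8Props.FieldDim.dim_baseChange (X ↘ Spec (CommRingCat.of k)) q _ (sq k X), hd]
  have hηK : cdim (genericPoint (XK k X)) = ((m + 2 : ℕ) : WithBot ℕ∞) := by
    rw [VarDim.cdim_genericPoint (XK k X), hdK]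
  have hσ0 : σ ≠ 0 := by
    intro h0
    have hle := gen_smul_le_basicOpen hNK (0 : Γ(XK k X, ⊤)) σ
    rw [zero_smul, Scheme.basicOpen_zero, ← h0] at hle
    exact (hle hgen : genericPoint (XK k X) ∈ (⊥ : (XK k X).Opens))
  -- a point of top dimension of the zero locus lies in the chart
  have hchart : ∀ z : XK k X, z ∉ gen NK σ → ((m + 1 : ℕ) : WithBot ℕ∞) ≤ cdim z → q z ∈ gen N s₁ := by
    intro z hz hcd
    by_contra h1
    have h := (H8Props.FieldDim.baseChange_point (X ↘ Spec (CommRingCat.of k)) q _ (sq k X) z).1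
    exact absurd (hcd.trans (h.trans (hB _ (notMem_fst k s₀ s₁ hN hz h1) h1)))
      (not_le.2 (WithBot.coe_lt_coe.2 (ENat.natCast_lt_natCast.2 (by omega))))
  have huniq : ∀ z z' : XK k X, z ∉ gen NK σ → z' ∉ gen NK σ → cdim z = ((m + 1 : ℕ) : WithBot ℕ∞) →
      cdim z' = ((m + 1 : ℕ) : WithBot ℕ∞) → z = z' := by
    intro z z' hz hz' hzd hz'd
    have hmem : z ∈ ((q ⁻¹ᵁ gen N s₁ : Set (XK k X)) \ (gen NK σ : Set (XK k X))) := ⟨hchart z hz hzd.ge, hz⟩
    have hirr' : IsIrreducible (closure ((q ⁻¹ᵁ gen N s₁ : Set (XK k X)) \ (gen NK σ : Set (XK k X)))) :=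
      IsIrreducible.closure ⟨⟨z, hmem⟩, hirr⟩
    let g := hirr'.genericPoint
    have hg : closure {g} = closure ((q ⁻¹ᵁ gen N s₁ : Set (XK k X)) \ (gen NK σ : Set (XK k X))) :=
      hirr'.closure_genericPoint isClosed_closure
    have hgZ : g ∉ gen NK σ := by
      have : g ∈ ((gen NK σ : Set (XK k X)))ᶜ := closure_minimal (fun y hy => hy.2)
        (gen NK σ).isOpen.isClosed_compl (hg.le (subset_closure rfl))
      exact this
    have hgd : cdim g ≤ ((m + 1 : ℕ) : WithBot ℕ∞) :=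
      le_of_lt_succ (DevLength.dim_closure_lt (genericPoint_specializes g) (fun e => hgZ (e ▸ hgen)) hηK.le)
    have key : ∀ y : XK k X, y ∉ gen NK σ → cdim y = ((m + 1 : ℕ) : WithBot ℕ∞) → y = g := by
      intro y hy hyd
      by_contra hne
      have h2 := DevLength.dim_closure_lt (z := g) (y := y)
        (specializes_iff_mem_closure.2 (hg.ge (subset_closure ⟨hchart y hy hyd.ge, hy⟩))) hne hgd
      exact h2.ne hyd
    rw [key z hz hzd, key z' hz' hz'd]
  obtain ⟨NK', hNK', ⟨e₀⟩⟩ := H11Sym.exists_inverse hNK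
  let e := H10Coh.Tw.commIso NK NK' ≪≫ e₀
  -- the cut
  have hcut : ∀ l : List X.Modules, (∀ A ∈ l, PicF.IsInvertible A) → l.length = m + 1 →
      ∃ C : (XK k X).Modules, Coh.IsCoh C ∧ topologicalKrullDim (CohB1.support C) ≤ ((m + 1 : ℕ) : WithBot ℕ∞) ∧
        (∀ w, w ∉ gen NK σ → w ∈ CohB1.support C) ∧ CohB1.support C ⊆ (gen NK σ : Set (XK k X))ᶜ ∧
        (a : ℤ) * NefQ.Q k (H :: l) (Coh.structureModule X) =
          NefQ.Q (KT k) (l.map (Scheme.Modules.pullback q).obj) C := by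
    intro l hl hlen
    let l' := l.map (Scheme.Modules.pullback q).obj
    have hl' : ∀ A ∈ l', PicF.IsInvertible A := fun A hA => by
      obtain ⟨B, hB, rfl⟩ := List.mem_map.1 hA
      exact isInvertible_pullback q (hl B hB)
    have hlen' : l'.length = m + 1 := by rw [List.length_map, hlen]
    have hdl : topologicalKrullDim (XK k X) ≤ ((l'.length + 1 : ℕ) : WithBot ℕ∞) := by rw [hlen', hdK]
    obtain ⟨C, hC, hCd, hCs, hsupp, heq⟩ := H28Int.Surface.exists_zero_locus (KT k) hl' hdl hNK hNK' e hσ0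
    rw [hlen'] at hCd
    refine ⟨C, hC, hCd, hsupp, hCs, ?_⟩
    have hO : Coh.IsCoh (Coh.structureModule (XK k X)) := H28Int.Surface.isCoh_structure (KT k)
    have hsum : H28Int.D (KT k) (NK :: l') (Coh.structureModule (XK k X)) +
        H28Int.D (KT k) (NK' :: l') (Coh.structureModule (XK k X)) = 0 := by
      rw [← H28Int.D_cons_tensor (KT k) hl' hNK hNK' hO
        ((Topology.IsInducing.subtypeVal.topologicalKrullDim_le).trans hdl)]
      show H28Int.D (KT k) l' _ - H28Int.D (KT k) l' _ = 0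
      rw [(H28Int.isAddFn_D (KT k) l' hl').congr (PicGrp.tensorModIso e (Iso.refl _) ≪≫ H10Coh.Tw.leftUnitIso _),
        sub_self]
    have hQN : NefQ.Q (KT k) (NK :: l') (Coh.structureModule (XK k X)) = NefQ.Q (KT k) l' C := by
      simp only [NefQ.Q, List.length_cons, ← heq]
      linear_combination (-1 : ℤ) ^ (l'.length + 1) * hsum
    have hOX : Coh.IsCoh (Coh.structureModule X) := H28Int.Surface.isCoh_structure k
    rw [← hQN, ← NefQ.Q_cons_pow k hl hH.1 hOX
      ((Topology.IsInducing.subtypeVal.topologicalKrullDim_le).trans (by rw [hlen, hd])) a]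
    have hNl : ∀ A ∈ N :: l, PicF.IsInvertible A := List.forall_mem_cons.2 ⟨hN, hl⟩
    have hbc := NefBC.D_bc k (KT k) (sq k X) (N :: l) hNl _ hOX
    simp only [NefQ.Q, List.length_cons, l', List.length_map]
    rw [← hbc, (H28Int.isAddFn_D (KT k) _ (List.forall_mem_cons.2 ⟨hNK, hl'⟩)).congr
      (H16Derived.KFlat.Stalk.structurePullbackIso q).symm]
    rfl
  -- the unique top point
  have hmain : ∀ l : List X.Modules, (∀ A ∈ l, PicF.IsInvertible A) → l.length = m + 1 →
      ∀ ξ : XK k X, ξ ∉ gen NK σ → cdim ξ = ((m + 1 : ℕ) : WithBot ℕ∞) →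
      ∃ c : ℤ, 0 < c ∧ (a : ℤ) * NefQ.Q k (H :: l) (Coh.structureModule X) =
          c * NefQ.Q (KT k) (l.map (Scheme.Modules.pullback q).obj) (H25K.redMod (DevLength.cl ξ)) := by
    intro l hl hlen ξ hξ hξd
    obtain ⟨C, hC, hCd, hsupp, hCs, heq⟩ := hcut l hl hlen
    have hl' : ∀ A ∈ l.map (Scheme.Modules.pullback q).obj, PicF.IsInvertible A := fun A hA => by
      obtain ⟨B, hB, rfl⟩ := List.mem_map.1 hA
      exact isInvertible_pullback q (hl B hB)
    have hlen' : (l.map (Scheme.Modules.pullback q).obj).length = m + 1 := by rw [List.length_map, hlen]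
    have htop : DevLength.len C ξ ≠ ⊤ := DevLength.len_ne_top hC hC subset_rfl hCd hξd
    have hzero : DevLength.len C ξ ≠ 0 := fun h0 => by
      haveI := Module.length_eq_zero_iff.1 h0
      exact hsupp ξ hξ (inferInstance)
    have hcpos : 0 < (DevLength.len C ξ).toNat :=
      Nat.pos_of_ne_zero (fun h0 => (ENat.toNat_eq_zero.1 h0).elim hzero htop)
    refine ⟨((DevLength.len C ξ).toNat : ℤ), Int.natCast_pos.2 hcpos, heq.trans ?_⟩
    rw [NefQ.Q, NefQ.Q, DevLength.eq_finsum (H28Int.isAddFn_D (KT k) _ hl') (d := m + 1)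
      (fun G hG hG' => H28Int.D_eq_zero (KT k) _ hl' G hG (by rw [hlen']; exact hG')) hC hCd,
      finsum_eq_single _ ξ, if_pos (show topologicalKrullDim (closure ({ξ} : Set (XK k X))) = _ from hξd)]
    · ring
    · intro z hz
      split_ifs with hzd
      · rw [DevLength.len_eq_zero fun hzs => hz (huniq z ξ (hCs hzs) hξ hzd hξd)]
        simp
      · rfl
  -- existence
  obtain ⟨ξ, hξ, hξd⟩ : ∃ ξ : XK k X, ξ ∉ gen NK σ ∧ cdim ξ = ((m + 1 : ℕ) : WithBot ℕ∞) := by
    by_contra hno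
    push Not at hno
    have hl : ∀ A ∈ List.replicate (m + 1) H, PicF.IsInvertible A := fun A hA => List.eq_of_mem_replicate hA ▸ hH.1
    obtain ⟨C, hC, hCd, hsupp, hCs, heq⟩ := hcut _ hl List.length_replicate
    have hl' : ∀ A ∈ (List.replicate (m + 1) H).map (Scheme.Modules.pullback q).obj, PicF.IsInvertible A :=
      fun A hA => by
        obtain ⟨B, hB, rfl⟩ := List.mem_map.1 hA
        exact isInvertible_pullback q (hl B hB)
    have hlen' : ((List.replicate (m + 1) H).map (Scheme.Modules.pullback q).obj).length = m + 1 := by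
      rw [List.length_map, List.length_replicate]
    have h0 : NefQ.Q (KT k) ((List.replicate (m + 1) H).map (Scheme.Modules.pullback q).obj) C = 0 := by
      rw [NefQ.Q, DevLength.eq_finsum (H28Int.isAddFn_D (KT k) _ hl') (d := m + 1)
        (fun G hG hG' => H28Int.D_eq_zero (KT k) _ hl' G hG (by rw [hlen']; exact hG')) hC hCd]
      refine mul_eq_zero_of_right _ (finsum_eq_zero_of_forall_eq_zero fun z => ?_)
      split_ifs with hzd
      · rw [DevLength.len_eq_zero fun hzs => hno z (hCs hzs) hzd]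
        simp
      · rfl
    have hpos := Nakai.top_pos k hH.1 (Nakai.pos_of_isAmple k hH) (d := m + 2) (by omega) hd
    rw [h0] at heq
    have h1 : NefQ.Q k (H :: List.replicate (m + 1) H) (Coh.structureModule X) = 0 :=
      (mul_eq_zero.1 heq).resolve_left (by exact_mod_cast ha.ne')
    rw [← List.replicate_succ, NefQ.Q, List.length_replicate] at h1
    rw [show m + 1 + 1 = m + 2 from rfl] at h1
    exact hpos.ne' h1
  refine ⟨ξ, a, by exact_mod_cast ha, hξd, fun z hz => ?_, fun l hl hlen => ?_⟩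
  · have hzZ : z ∉ gen NK σ := notMem_member k s₀ s₁ hN (hvS _ hz).1 (hvS _ hz).2
    obtain ⟨w, hwz, hwG, hwd⟩ := exists_component_cut (KT k) hNK σ hgen (w₀ := z)
      ⟨(genericPoint_specializes z).mem_closure, hzZ⟩
    have hwd' : cdim w = ((m + 1 : ℕ) : WithBot ℕ∞) := by
      rw [hηK] at hwd
      rcases hc : cdim w with _ | b
      · rw [hc] at hwd
        change _ = (⊥ : WithBot ℕ∞) + 1 at hwd
        rw [WithBot.bot_add] at hwd
        exact absurd hwd WithBot.coe_ne_bot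
      · rw [hc] at hwd
        have hb : ((m + 2 : ℕ) : ℕ∞) = b + 1 := WithBot.coe_inj.1 hwd
        refine WithBot.coe_inj.2 ?_
        exact WithTop.add_right_cancel ENat.one_ne_top (hb.symm.trans (by push_cast; ring) : b + 1 = ((m + 1 : ℕ) : ℕ∞) + 1)
    rw [← huniq w ξ hwG hξ hwd' hξd]
    exact hwz.mem_closure
  · obtain ⟨c, hc, heq⟩ := hmain l hl hlen ξ hξ hξd
    exact ⟨c, hc, heq⟩

end Groth.Agent.H12Pic.Hodge
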