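import Groth.Agent.H12Pic.Hodge.Classes
import Groth.Agent.H11Ample.Tensor
import Groth.Agent.S2329

/-!
# A set is bounded exactly when a fixed ample twist makes it and its inverses ample
-/

set_option autoImplicit false
set_option linter.style.haveILetI false
set_option linter.unusedSectionVars false
universe u

open CategoryTheory CategoryTheory.Limits AlgebraicGeometry TopologicalSpace Opposite
open Groth.Agent.H11Ample Groth.Agent.H22Alg
open Groth.Agent.H8Props.FieldDim (cdim)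
open Groth.Agent.H25Theta (pb pT pC pI tI)

noncomputable section

namespace Groth.Agent.H12Pic.Hodge

variable (k : Type u) [Field k] {X : Scheme.{u}} [X.Over (Spec (CommRingCat.of k))]
  [IsProper (X ↘ Spec (CommRingCat.of k))]

/-- Ample classes meet nonnegatively. -/
theorem Q_ample_list_nonneg {l : List X.Modules} (hl : ∀ A ∈ l, CohB1.IsAmple A) {F : X.Modules} (hF : Coh.IsCoh F)
    (hd : topologicalKrullDim (CohB1.support F) ≤ (l.length : WithBot ℕ∞)) : 0 ≤ NefQ.Q k l F := by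
  haveI := H28Int.isNoetherian k (X := X)
  have hex : ∀ A : X.Modules, ∃ A', PicF.IsInvertible A →
      PicF.IsInvertible A' ∧ Nonempty (CohB1.tensorMod A A' ≅ Coh.structureModule X) := fun A => by
    by_cases hA : PicF.IsInvertible A
    · obtain ⟨A', h⟩ := Bdd.exists_right_inverse hA
      exact ⟨A', fun _ => h⟩
    · exact ⟨A, fun h => absurd h hA⟩
  choose f hf' using hex
  have hf := fun A hA => (hf' A hA).1
  have he := fun A hA => (hf' A hA).2
  have hF2 : List.Forall₂ (fun A A' => PicF.IsInvertible A ∧ PicF.IsInvertible A' ∧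
      Nonempty (CohB1.tensorMod A A' ≅ Coh.structureModule X)) l (l.map f) :=
    List.forall₂_map_right_iff.2 (List.forall₂_same.2 fun A hA => ⟨(hl A hA).1, hf A (hl A hA).1, he A (hl A hA).1⟩)
  have h1 := Q_inverses k hF hF2 [] (by simp) (by simpa using hd)
  have h2 := (H28Int.pos_of_ample k (l.map f) (fun M hM => by
    obtain ⟨A, hA, rfl⟩ := List.mem_map.1 hM
    exact ⟨A, hl A hA, he A (hl A hA).1⟩) F hF (by rw [List.length_map]; exact hd)).1
  simp only [List.nil_append, NefQ.Q, List.length_map] at h1 ⊢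
  have hsq : ((-1 : ℤ) ^ l.length) * ((-1 : ℤ) ^ l.length) = 1 := by
    rw [← pow_add, ← two_mul, pow_mul, neg_one_sq, one_pow]
  have h3 : (-1 : ℤ) ^ l.length * H28Int.D k l F = H28Int.D k (l.map f) F := by
    linear_combination -((-1 : ℤ) ^ l.length) * h1 +
      (H28Int.D k (l.map f) F - (-1 : ℤ) ^ l.length * H28Int.D k l F) * hsq
  omega

variable [IsAlgClosed k] [IsIntegral X]

/-- On an integral scheme of dimension at most one the degree determines the numerical class. -/
theorem nt_of_deg_zero (hd : topologicalKrullDim X ≤ ((1 : ℕ) : WithBot ℕ∞)) {D : X.Modules}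
    (hD : PicF.IsInvertible D) (h : NefQ.Q k [D] (Coh.structureModule X) = 0) : NumTriv.NT k D := by
  haveI := H28Int.isNoetherian k (X := X)
  refine ⟨hD, (NumTriv.num_iff_Q k hD).2 fun Z i _ _ hZ => ?_⟩
  have hX1 : topologicalKrullDim X = ((1 : ℕ) : WithBot ℕ∞) :=
    le_antisymm hd (hZ ▸ i.isClosedEmbedding.isEmbedding.isInducing.topologicalKrullDim_le)
  have hgen : i (genericPoint Z) = genericPoint X := by
    by_contra hne
    have hlt := DevLength.dim_closure_lt (genericPoint_specializes (i (genericPoint Z))) hne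
      (((VarDim.cdim_genericPoint X).trans hX1).le)
    rw [← LeadDev.range_eq_closure i rfl,
      ← i.isClosedEmbedding.isEmbedding.toHomeomorph.isHomeomorph.topologicalKrullDim_eq, hZ] at hlt
    exact lt_irrefl _ hlt
  have e : ClSub.quotMod (𝟙 X : X ⟶ X).ker = ClSub.quotMod i.ker := by
    rw [IntPullback.quotMod_ker, IntPullback.quotMod_ker, hgen]
    rfl
  rw [← e, NefQ.Q, Nakai.D_quotMod_id k (List.forall_mem_singleton.2 hD) (by simpa using hX1)]
  exact h

theorem finNT_small (hd : topologicalKrullDim X ≤ ((1 : ℕ) : WithBot ℕ∞)) (B : ℤ) :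
    FinNT k fun L : X.Modules => PicF.IsInvertible L ∧ |NefQ.Q k [L] (Coh.structureModule X)| ≤ B := by
  classical
  haveI := H28Int.isNoetherian k (X := X)
  have hO := H10Coh.isCoh_structureModule' X
  have hdl : topologicalKrullDim (CohB1.support (Coh.structureModule X)) ≤ ((1 : ℕ) : WithBot ℕ∞) :=
    (Topology.IsInducing.subtypeVal.topologicalKrullDim_le).trans hd
  let deg := fun L : X.Modules => NefQ.Q k [L] (Coh.structureModule X)
  let κ := {a : ↥(Finset.Icc (-B) B) // ∃ L, PicF.IsInvertible L ∧ deg L = a.1}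
  obtain ⟨N, ⟨eN⟩⟩ := Finite.exists_equiv_fin κ
  choose rep hrep hdeg using fun a : κ => a.2
  refine ⟨N, fun j => rep (eN.symm j), fun j => ⟨hrep _, ?_⟩, fun L ⟨hL, hLB⟩ => ?_⟩
  · rw [show NefQ.Q k [rep (eN.symm j)] (Coh.structureModule X) = _ from hdeg _]
    exact abs_le.2 (Finset.mem_Icc.1 (eN.symm j).1.2)
  let a : κ := ⟨⟨deg L, Finset.mem_Icc.2 (abs_le.1 hLB)⟩, L, hL, rfl⟩
  refine ⟨eN a, fun A hA ⟨e⟩ => ?_⟩
  replace e : CohB1.tensorMod (rep a) A ≅ Coh.structureModule X := eN.symm_apply_apply a ▸ e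
  refine nt_of_deg_zero k hd (H11Ample.isInvertible_tensor hL hA) ?_
  have h1 := NumTriv.Q_inverse k (hrep a) hA e hO hdl
  have h2 : deg (rep a) = deg L := hdeg a
  rw [NefQ.Q_cons_tensor k (l := []) (by simp) hL hA hO hdl]
  simp only [deg] at h2
  linarith

theorem isBounded_iff_twists_ample {H : X.Modules} (hH : CohB1.IsAmple H) {P : X.Modules → Prop}
    (hP : ∀ L, P L → PicF.IsInvertible L) :
    Pic13.IsBounded k X P ↔ ∃ N : ℕ, ∀ L L' : X.Modules, P L →
      Nonempty (CohB1.tensorMod L L' ≅ Coh.structureModule X) →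
      CohB1.IsAmple (CohB1.tensorMod (CohB1.tensorPow H N) L) ∧
        CohB1.IsAmple (CohB1.tensorMod (CohB1.tensorPow H N) L') := by
  haveI := H28Int.isNoetherian k (X := X)
  haveI : X.IsSeparated := NumTriv.isSeparated k
  have hpow : ∀ N, PicF.IsInvertible (CohB1.tensorPow H N) := fun N => isInvertible_tensorPow hH.1 N
  constructor
  · intro hb
    obtain ⟨q, M, hM, hrep⟩ := Bdd.exists_reps_bounded k P id hb fun L hL => ⟨hL, hP L hL⟩
    choose M' hM' heM using fun j => Bdd.exists_right_inverse (hP _ (hM j))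
    choose n₁ _ h₁ using fun j => S2329.result X H (M j) hH (hP _ (hM j))
    choose n₂ _ h₂ using fun j => S2329.result X H (M' j) hH (hM' j)
    let N := Finset.univ.sup fun j => max (n₁ j) (n₂ j)
    refine ⟨N, fun L L' hL ⟨eL⟩ => ?_⟩
    obtain ⟨j, hj⟩ := hrep L hL
    have hN : max (n₁ j) (n₂ j) ≤ N := Finset.le_sup (f := fun j => max (n₁ j) (n₂ j)) (Finset.mem_univ j)
    obtain ⟨eM⟩ := heM j
    have hLi := hP L hL
    have hMi := hP _ (hM j)
    have hL'i := LeadBC.TrivFiber.isInvertible_of_tensor hLi eL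
    let D := CohB1.tensorMod L (M' j)
    have hD : NumTriv.NT k D := Bdd.nt_of_algEquiv k (H11Ample.isInvertible_tensor hLi (hM' j)) (hj _ (hM' j) ⟨eM⟩)
    let D' := CohB1.tensorMod L' (M j)
    have hD' : NumTriv.NT k D' := hD.inverse k (
      H10Coh.Tw.assoc L (M' j) D' ≪≫ tI (Iso.refl L) ((H10Coh.Tw.assoc (M' j) L' (M j)).symm ≪≫
        tI (H10Coh.Tw.commIso (M' j) L') (Iso.refl (M j)) ≪≫ H10Coh.Tw.assoc L' (M' j) (M j) ≪≫
        tI (Iso.refl L') (H10Coh.Tw.commIso (M' j) (M j) ≪≫ eM) ≪≫ H10Coh.Tw.rightUnitIso L') ≪≫ eL)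
    have amp : ∀ {D M M' Y : X.Modules}, NumTriv.NT k D → (CohB1.tensorMod M M' ≅ Coh.structureModule X) →
        (D ≅ CohB1.tensorMod Y M') → CohB1.IsAmple (CohB1.tensorMod (CohB1.tensorPow H N) M) →
        CohB1.IsAmple (CohB1.tensorMod (CohB1.tensorPow H N) Y) := by
      intro D M M' Y hD e eD hA
      refine H11Ample.isAmple_of_iso ?_ (NefBC.isAmple_of_nef k hD.inv (hD.nef k) hA 1)
      exact tI (H10Coh.Tw.leftUnitIso D ≪≫ eD) (Iso.refl _) ≪≫
        (H10Coh.Tw.assoc (CohB1.tensorMod Y M') _ M).symm ≪≫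
        tI (H10Coh.Tw.commIso (CohB1.tensorMod Y M') (CohB1.tensorPow H N)) (Iso.refl M) ≪≫
        H10Coh.Tw.assoc _ (CohB1.tensorMod Y M') M ≪≫
        tI (Iso.refl _) (H10Coh.Tw.assoc Y M' M ≪≫ tI (Iso.refl Y) (H10Coh.Tw.commIso M' M ≪≫ e) ≪≫
          H10Coh.Tw.rightUnitIso Y)
    exact ⟨amp hD eM (Iso.refl _) (h₁ j N ((le_max_left _ _).trans hN)).1,
      amp hD' (H10Coh.Tw.commIso (M' j) (M j) ≪≫ eM) (Iso.refl _) (h₂ j N ((le_max_right _ _).trans hN)).1⟩
  · rintro ⟨N, hN⟩
    have hO := H10Coh.isCoh_structureModule' X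
    obtain ⟨r, hr⟩ : ∃ r : ℕ, topologicalKrullDim X = (r : WithBot ℕ∞) := by
      obtain ⟨r, hr, -⟩ := VarDim.exists_cdim_trdeg k X (genericPoint X)
      exact ⟨r, (VarDim.cdim_genericPoint X).symm.trans hr⟩
    have hdl : topologicalKrullDim (CohB1.support (Coh.structureModule X)) ≤ (r : WithBot ℕ∞) :=
      (Topology.IsInducing.subtypeVal.topologicalKrullDim_le).trans hr.le
    rcases Nat.lt_or_ge r 2 with hr2 | hr2
    · have h1 : topologicalKrullDim X ≤ ((1 : ℕ) : WithBot ℕ∞) := by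
        rw [hr]; exact_mod_cast (by omega : r ≤ 1)
      have hdl1 := (Topology.IsInducing.subtypeVal.topologicalKrullDim_le (f := ((↑) :
        CohB1.support (Coh.structureModule X) → X))).trans h1
      refine ((bdd_of_finNT k (fun _ h => h.1) (finNT_small k h1
        ((N : ℤ) * NefQ.Q k [H] (Coh.structureModule X)))).subset fun L hL => ?_).isBounded
      have hLi := hP L hL
      obtain ⟨L', hL'i, ⟨eL⟩⟩ := Bdd.exists_right_inverse hLi
      have pos : ∀ {M : X.Modules}, CohB1.IsAmple M → 0 ≤ NefQ.Q k [M] (Coh.structureModule X) :=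
        fun hM => Q_ample_list_nonneg k (List.forall_mem_singleton.2 hM) hO (by simpa using hdl1)
      have p1 := pos (hN L L' hL ⟨eL⟩).1
      have p2 := pos (hN L L' hL ⟨eL⟩).2
      rw [NefBC.Q_tensor_pow k hH.1 hLi N hO hdl1] at p1
      rw [NefBC.Q_tensor_pow k hH.1 hL'i N hO hdl1] at p2
      have h3 := NumTriv.Q_inverse k hLi hL'i eL hO hdl1
      exact ⟨hLi, abs_le.2 ⟨by linarith, by linarith⟩⟩
    obtain ⟨d, rfl⟩ : ∃ d, r = d + 2 := ⟨r - 2, by omega⟩
    set h := NefQ.Q k (List.replicate (d + 2) H) (Coh.structureModule X) with hh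
    refine ((bdd_pset k hr hH (3 * (N : ℤ) ^ 2 * h + (N : ℤ) * h)).subset fun L hL => ?_).isBounded
    have hLi := hP L hL
    obtain ⟨L', hL'i, ⟨eL⟩⟩ := Bdd.exists_right_inverse hLi
    obtain ⟨hA1, hA2⟩ := hN L L' hL ⟨eL⟩
    have hHl : ∀ j, ∀ A ∈ List.replicate j H, PicF.IsInvertible A := fun j A hA => List.eq_of_mem_replicate hA ▸ hH.1
    have hd' : ∀ l : List X.Modules, l.length = d + 1 →
        topologicalKrullDim (CohB1.support (Coh.structureModule X)) ≤ ((l.length + 1 : ℕ) : WithBot ℕ∞) :=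
      fun l hl => by rw [hl]; exact hdl
    have expand : ∀ {M : X.Modules}, PicF.IsInvertible M → ∀ l : List X.Modules, (∀ A ∈ l, PicF.IsInvertible A) →
        l.length = d + 1 → NefQ.Q k (CohB1.tensorMod (CohB1.tensorPow H N) M :: l) (Coh.structureModule X) =
          (N : ℤ) * NefQ.Q k (H :: l) (Coh.structureModule X) + NefQ.Q k (M :: l) (Coh.structureModule X) := by
      intro M hM l hl hlen
      rw [NefQ.Q_cons_tensor k hl (hpow N) hM hO (hd' l hlen), NefQ.Q_cons_pow k hl hH.1 hO (hd' l hlen)]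
    set A₁ := CohB1.tensorMod (CohB1.tensorPow H N) L
    have hA₁ : PicF.IsInvertible A₁ := hA1.1
    set a := NefQ.Q k (L :: List.replicate (d + 1) H) (Coh.structureModule X)
    have pos : ∀ {l : List X.Modules}, (∀ A ∈ l, CohB1.IsAmple A) → l.length = d + 2 →
        0 ≤ NefQ.Q k l (Coh.structureModule X) :=
      fun hl hlen => Q_ample_list_nonneg k hl hO (by rw [hlen]; exact hdl)
    have p1 := pos (l := A₁ :: List.replicate (d + 1) H)
      (List.forall_mem_cons.2 ⟨hA1, fun A hA => List.eq_of_mem_replicate hA ▸ hH⟩) (by simp)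
    have p2 := pos (l := CohB1.tensorMod (CohB1.tensorPow H N) L' :: List.replicate (d + 1) H)
      (List.forall_mem_cons.2 ⟨hA2, fun A hA => List.eq_of_mem_replicate hA ▸ hH⟩) (by simp)
    have p3 := pos (l := A₁ :: A₁ :: List.replicate d H)
      (List.forall_mem_cons.2 ⟨hA1, List.forall_mem_cons.2 ⟨hA1, fun A hA => List.eq_of_mem_replicate hA ▸ hH⟩⟩)
      (by simp)
    have e1 := expand hLi _ (hHl (d + 1)) List.length_replicate
    change NefQ.Q k (A₁ :: _) _ = (N : ℤ) * h + a at e1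
    have e2 := expand hL'i _ (hHl (d + 1)) List.length_replicate
    rw [Q_cons_inv k hLi hL'i eL (hHl (d + 1)) hO (hd' _ List.length_replicate)] at e2
    change _ = (N : ℤ) * h + -a at e2
    have e3 := expand hLi (A₁ :: List.replicate d H) (List.forall_mem_cons.2 ⟨hA₁, hHl d⟩) (by simp)
    rw [NefQ.Q_perm k (List.Perm.swap A₁ H _) (List.forall_mem_cons.2 ⟨hH.1, List.forall_mem_cons.2 ⟨hA₁, hHl d⟩⟩),
      NefQ.Q_perm k (List.Perm.swap A₁ L _) (List.forall_mem_cons.2 ⟨hLi, List.forall_mem_cons.2 ⟨hA₁, hHl d⟩⟩)] at e3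
    change NefQ.Q k (A₁ :: A₁ :: _) _ = (N : ℤ) * NefQ.Q k (A₁ :: List.replicate (d + 1) H) _ + _ at e3
    rw [e1, expand hLi (L :: List.replicate d H) (List.forall_mem_cons.2 ⟨hLi, hHl d⟩) (by simp),
      NefQ.Q_perm k (List.Perm.swap L H _) (List.forall_mem_cons.2 ⟨hH.1, List.forall_mem_cons.2 ⟨hLi, hHl d⟩⟩)] at e3
    change _ = (N : ℤ) * ((N : ℤ) * h + a) + ((N : ℤ) * a + _) at e3
    rw [e1] at p1
    rw [e2] at p2
    rw [e3] at p3
    have hN0 : (0 : ℤ) ≤ N := Nat.cast_nonneg _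
    have m1 := mul_le_mul_of_nonneg_left (show a ≤ (N : ℤ) * h by linarith) hN0
    have hh0 : 0 ≤ h := pos (l := List.replicate (d + 2) H) (fun A hA => List.eq_of_mem_replicate hA ▸ hH)
      List.length_replicate
    have m2 := mul_nonneg (mul_nonneg hN0 hN0) hh0
    have m3 := mul_nonneg hN0 hh0
    refine ⟨hLi, abs_le.2 ⟨?_, ?_⟩, ?_⟩
    · linarith
    · linarith
    · linarith

end Groth.Agent.H12Pic.Hodge
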